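import Mathlib
import Cfsg.Prelude.Def_Characters

set_option autoImplicit false

namespace Cfsg.Agent.Lib.Helper4

universe u

section elementary

variable {p : ℕ}

theorem isElementary_of_mulEquiv {E E' : Type*} [Group E] [Group E'] (e : E ≃* E')
    (h : IsElementary p E) : IsElementary p E' := by
  obtain ⟨x, hx, hcop, k, hk⟩ := h
  refine ⟨e x, ?_, ?_, k, ?_⟩
  · rw [Subgroup.mem_center_iff] at hx ⊢
    intro g
    obtain ⟨g', rfl⟩ := e.surjective g
    rw [← map_mul, ← map_mul, hx g']
  · rwa [MulEquiv.orderOf_eq]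
  · rw [← hk]
    have h1 : Subgroup.zpowers (e x) = (Subgroup.zpowers x).map e.toMonoidHom := by
      rw [MonoidHom.map_zpowers]; rfl
    rw [h1]
    exact Subgroup.index_map_equiv _ e

theorem normal_of_le_center' {G : Type*} [Group G] {K : Subgroup G} (h : K ≤ Subgroup.center G) :
    K.Normal := by
  constructor
  intro n hn g
  have := (Subgroup.mem_center_iff.mp (h hn)) g
  rw [this, mul_inv_cancel_right]
  exact hn

theorem zpowers_le_center {G : Type*} [Group G] {x : G} (hx : x ∈ Subgroup.center G) :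
    Subgroup.zpowers x ≤ Subgroup.center G := by
  rw [Subgroup.zpowers_le]; exact hx

/-- criterion: central `p'`-element together with a `p`-subgroup generating everything -/
theorem isElementary_of_sup_eq_top [hp : Fact p.Prime] {E : Type*} [Group E] [Finite E] (x : E)
    (hx : x ∈ Subgroup.center E) (hcop : Nat.Coprime (orderOf x) p) (P : Subgroup E)
    (hP : IsPGroup p P) (hsup : Subgroup.zpowers x ⊔ P = ⊤) : IsElementary p E := by
  refine ⟨x, hx, hcop, ?_⟩
  have hn : (Subgroup.zpowers x).Normal := normal_of_le_center' (zpowers_le_center hx)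
  have h1 : (Subgroup.zpowers x).index = (Subgroup.zpowers x).relIndex P := by
    rw [← Subgroup.relIndex_top_right, ← hsup, Subgroup.relIndex_sup_left]
  obtain ⟨n, hn'⟩ := IsPGroup.iff_card.mp hP
  have h2 : (Subgroup.zpowers x).relIndex P ∣ p ^ n := by
    rw [← hn']; exact Subgroup.relIndex_dvd_card _ _
  obtain ⟨k, -, hk⟩ := (Nat.dvd_prime_pow hp.out).mp h2
  exact ⟨k, by rw [h1, hk]⟩

/-- An elementary group is nilpotent. -/
theorem isNilpotent_of_isElementary [hp : Fact p.Prime] {E : Type*} [Group E] [Finite E]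
    (h : IsElementary p E) : Group.IsNilpotent E := by
  obtain ⟨x, hx, -, k, hk⟩ := h
  have hn : (Subgroup.zpowers x).Normal := normal_of_le_center' (zpowers_le_center hx)
  have hq : IsPGroup p (E ⧸ Subgroup.zpowers x) := by
    apply IsPGroup.of_card (n := k)
    rw [← Subgroup.index_eq_card, hk]
  have hnil : Group.IsNilpotent (E ⧸ Subgroup.zpowers x) := hq.isNilpotent
  apply Subgroup.isNilpotent_of_ker_le_center (QuotientGroup.mk' (Subgroup.zpowers x))
  rw [QuotientGroup.ker_mk']; exact zpowers_le_center hx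

/-- Subgroups of elementary groups are elementary. -/
theorem isElementary_subgroup [hp : Fact p.Prime] {E : Type*} [Group E] [Finite E]
    (h : IsElementary p E) (B : Subgroup E) : IsElementary p B := by
  obtain ⟨x, hx, hcop, k, hk⟩ := h
  have hn : (Subgroup.zpowers x).Normal := normal_of_le_center' (zpowers_le_center hx)
  let Z : Subgroup B := (Subgroup.zpowers x).subgroupOf B
  let f : Z →* Subgroup.zpowers x :=
    { toFun := fun z => ⟨((z : B) : E), z.2⟩
      map_one' := rfl
      map_mul' := fun _ _ => rfl }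
  have hf : Function.Injective f := by
    intro a b hab
    apply Subtype.ext
    apply Subtype.ext
    exact congrArg (fun t : Subgroup.zpowers x => (t : E)) hab
  have hcyc : IsCyclic Z := isCyclic_of_injective f hf
  obtain ⟨y, hy⟩ := hcyc.exists_generator
  have hZ : Subgroup.zpowers (y : B) = Z := by
    apply le_antisymm
    · rw [Subgroup.zpowers_le]; exact y.2
    · intro z hz
      obtain ⟨n, hn⟩ := Subgroup.mem_zpowers_iff.mp (hy ⟨z, hz⟩)
      exact Subgroup.mem_zpowers_iff.mpr ⟨n, by simpa using congrArg Subtype.val hn⟩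
  refine ⟨(y : B), ?_, ?_, ?_⟩
  · rw [Subgroup.mem_center_iff]
    intro g
    apply Subtype.ext
    have h1 : (((y : B) : E)) ∈ Subgroup.center E := zpowers_le_center hx y.2
    exact (Subgroup.mem_center_iff.mp h1) g
  · have h1 : orderOf (y : B) ∣ orderOf x := by
      have h2 : orderOf (y : B) = orderOf (f y) := by
        rw [orderOf_injective f hf, Subgroup.orderOf_coe]
      rw [h2, ← Nat.card_zpowers x]
      exact orderOf_dvd_natCard _
    exact Nat.Coprime.coprime_dvd_left h1 hcop
  · rw [hZ]
    have h1 : Z.index ∣ p ^ k := by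
      rw [← hk]
      exact Subgroup.relIndex_dvd_index_of_normal _ _
    obtain ⟨j, -, hj⟩ := (Nat.dvd_prime_pow hp.out).mp h1
    exact ⟨j, hj⟩

end elementary

section quasi

/-- `p`-quasi-elementary: a cyclic normal `p'`-subgroup of `p`-power index. -/
def QuasiElem (p : ℕ) (H : Type u) [Group H] : Prop :=
  ∃ C : Subgroup H, C.Normal ∧ IsCyclic C ∧ Nat.Coprime (Nat.card C) p ∧ ∃ k : ℕ, C.index = p ^ k

theorem quasiElem_subgroup {p : ℕ} (hp : p.Prime) {H : Type u} [Group H] [Finite H]
    (h : QuasiElem p H) (T : Subgroup H) : QuasiElem p T := by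
  obtain ⟨C, hC, hcyc, hcop, k, hk⟩ := h
  let f : C.subgroupOf T →* C :=
    { toFun := fun z => ⟨((z : T) : H), z.2⟩
      map_one' := rfl
      map_mul' := fun _ _ => rfl }
  have hf : Function.Injective f := by
    intro a b hab
    apply Subtype.ext
    apply Subtype.ext
    exact congrArg (fun t : C => (t : H)) hab
  refine ⟨C.subgroupOf T, inferInstance, isCyclic_of_injective f hf, ?_, ?_⟩
  · exact Nat.Coprime.coprime_dvd_left (Subgroup.card_dvd_of_injective f hf) hcop
  · have h1 : (C.subgroupOf T).index ∣ p ^ k := by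
      rw [← hk]
      exact Subgroup.relIndex_dvd_index_of_normal _ _
    obtain ⟨j, -, hj⟩ := (Nat.dvd_prime_pow hp).mp h1
    exact ⟨j, hj⟩

/-- conversion from the relative formulation -/
theorem quasiElem_of_rel {p : ℕ} {G : Type u} [Group G] (H C : Subgroup G) (hCH : C ≤ H)
    (hnorm : H ≤ Subgroup.normalizer (C : Set G)) (hcyc : IsCyclic C)
    (hcop : Nat.Coprime (Nat.card C) p) (k : ℕ) (hk : C.relIndex H = p ^ k) : QuasiElem p H := by
  have e : C.subgroupOf H ≃* C := Subgroup.subgroupOfEquivOfLe hCH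
  refine ⟨C.subgroupOf H, ?_, ?_, ?_, k, hk⟩
  · exact (Subgroup.normal_subgroupOf_iff_le_normalizer hCH).mpr hnorm
  · exact isCyclic_of_surjective e.symm e.symm.surjective
  · rwa [Nat.card_congr e.toEquiv]

theorem sup_sylow_eq_top {p : ℕ} [hp : Fact p.Prime] {H : Type u} [Group H] [Finite H]
    (C : Subgroup H) (k : ℕ) (hk : C.index = p ^ k) (P : Sylow p H) :
    C ⊔ (P : Subgroup H) = ⊤ := by
  rw [← Subgroup.index_eq_one]
  have h1 : (C ⊔ (P : Subgroup H)).index ∣ p ^ k := by
    rw [← hk]
    exact Subgroup.index_dvd_of_le le_sup_left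
  have h2 : (C ⊔ (P : Subgroup H)).index ∣ (P : Subgroup H).index :=
    Subgroup.index_dvd_of_le le_sup_right
  obtain ⟨j, -, hj⟩ := (Nat.dvd_prime_pow hp.out).mp h1
  rcases Nat.eq_zero_or_pos j with rfl | hjpos
  · rw [hj, pow_zero]
  · exfalso
    apply P.not_dvd_index
    refine dvd_trans ?_ h2
    rw [hj]
    exact dvd_pow_self p hjpos.ne'

end quasi

end Cfsg.Agent.Lib.Helper4
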