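import Mathlib
import Cfsg.Prelude.Def_Characters
import Cfsg.Agent.Lib.Helper4.CharDecomp
import Cfsg.Agent.Lib.Helper4.Elementary
import Cfsg.Agent.Lib.Helper19.IndFun2
import Cfsg.Agent.Lib.Helper19.CharMisc
import Cfsg.Agent.Lib.Helper19.GramRigid

set_option autoImplicit false

namespace Cfsg.Agent.Lib.Helper4

open Cfsg.Agent.Lib.Helper19

universe u

section span

variable {G : Type u} [Group G] [Fintype G]

/-- The `ℤ`-span of the characters induced from the subgroups in a family `F`. -/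
def indSpan (F : Subgroup G → Prop) : AddSubgroup (G → ℂ) :=
  AddSubgroup.closure {φ | ∃ (E : Subgroup G) (ψ : E → ℂ), F E ∧ IsCharacter E ψ ∧ φ = indFun E ψ}

theorem indFun_mem_indSpan {F : Subgroup G → Prop} {E : Subgroup G} (hE : F E) {ψ : E → ℂ}
    (hψ : IsCharacter E ψ) : indFun E ψ ∈ indSpan F :=
  AddSubgroup.subset_closure ⟨E, ψ, hE, hψ, rfl⟩

theorem indSpan_mono {F F' : Subgroup G → Prop} (h : ∀ E, F E → F' E) : indSpan F ≤ indSpan F' := by
  apply AddSubgroup.closure_mono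
  rintro φ ⟨E, ψ, hE, hψ, rfl⟩
  exact ⟨E, ψ, h E hE, hψ, rfl⟩

/-- ideal property -/
theorem indSpan_mul_char {F : Subgroup G → Prop} {f χ : G → ℂ} (hf : f ∈ indSpan F)
    (hχ : IsCharacter G χ) : f * χ ∈ indSpan F := by
  induction hf using AddSubgroup.closure_induction with
  | mem φ hφ =>
    obtain ⟨E, ψ, hE, hψ, rfl⟩ := hφ
    rw [← indFun_mul_restrict E ψ χ (isClassFunction_of_char hχ)]
    exact indFun_mem_indSpan hE (isCharacter_mul hψ (isCharacter_restrict hχ E))
  | zero => rw [zero_mul]; exact AddSubgroup.zero_mem _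
  | add a b _ _ ha hb => rw [add_mul]; exact AddSubgroup.add_mem _ ha hb
  | neg a _ ha => rw [neg_mul]; exact AddSubgroup.neg_mem _ ha

theorem indFun_neg (H : Subgroup G) (θ : H → ℂ) : indFun H (-θ) = - indFun H θ := by
  have : -θ = (-1 : ℂ) • θ := by rw [neg_one_smul]
  rw [this, indFun_smul, neg_one_smul]

theorem indFun_sub (H : Subgroup G) (θ θ' : H → ℂ) :
    indFun H (θ - θ') = indFun H θ - indFun H θ' := by
  rw [sub_eq_add_neg, indFun_add, indFun_neg, sub_eq_add_neg]

theorem indFun_congr_subgroup {E E' : Subgroup G} (h : E = E') (ψ : E → ℂ) (ψ' : E' → ℂ)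
    (hψ : ∀ (x : G) (hx : x ∈ E) (hx' : x ∈ E'), ψ ⟨x, hx⟩ = ψ' ⟨x, hx'⟩) :
    indFun E ψ = indFun E' ψ' := by
  subst h
  congr 1
  funext ⟨x, hx⟩
  exact hψ x hx hx

/-- transitivity of induction, for a subgroup of a subgroup -/
theorem indFun_indFun_map (K : Subgroup G) [Fintype K] (E : Subgroup K) (ψ : E → ℂ) :
    indFun K (indFun E ψ) = indFun (E.map K.subtype)
      (fun y => ψ ((E.equivMapOfInjective K.subtype K.subtype_injective).symm y)) := by
  have hle : E.map K.subtype ≤ K := by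
    rintro _ ⟨x, -, rfl⟩
    exact x.2
  rw [← indFun_trans (E.map K.subtype) K hle]
  congr 1
  have hE : E = (E.map K.subtype).subgroupOf K := by
    rw [Subgroup.subgroupOf, Subgroup.comap_map_eq_self_of_injective K.subtype_injective]
  apply indFun_congr_subgroup hE
  intro x hx hx'
  congr 1
  rw [MulEquiv.eq_symm_apply]
  apply Subtype.ext
  rfl

/-- induction maps the span for a subgroup into the span for the group -/
theorem indFun_mem_indSpan_of_mem (K : Subgroup G) [Fintype K] {F : Subgroup G → Prop}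
    {F' : Subgroup K → Prop} (hF : ∀ E : Subgroup K, F' E → F (E.map K.subtype)) {f : K → ℂ}
    (hf : f ∈ indSpan F') : indFun K f ∈ indSpan F := by
  induction hf using AddSubgroup.closure_induction with
  | mem φ hφ =>
    obtain ⟨E, ψ, hE, hψ, rfl⟩ := hφ
    rw [indFun_indFun_map]
    exact indFun_mem_indSpan (hF E hE) (isCharacter_comp_hom hψ
      (E.equivMapOfInjective K.subtype K.subtype_injective).symm.toMonoidHom)
  | zero => rw [indFun_zero]; exact AddSubgroup.zero_mem _
  | add a b _ _ ha hb => rw [indFun_add]; exact AddSubgroup.add_mem _ ha hb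
  | neg a _ ha => rw [indFun_neg]; exact AddSubgroup.neg_mem _ ha

theorem neg_list_sum (l : List ((E : Subgroup G) × ((E → ℂ) × ℤ))) :
    -(l.map fun t => (t.2.2 : ℂ) • indFun t.1 t.2.1).sum =
      ((l.map fun t => (⟨t.1, t.2.1, -t.2.2⟩ : (E : Subgroup G) × ((E → ℂ) × ℤ))).map
        fun t => (t.2.2 : ℂ) • indFun t.1 t.2.1).sum := by
  induction l with
  | nil => simp
  | cons t l ih =>
    simp only [List.map_cons, List.sum_cons, neg_add, ih]
    congr 1
    simp

/-- list form of membership -/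
theorem exists_list_of_mem_indSpan {F : Subgroup G → Prop} {f : G → ℂ} (hf : f ∈ indSpan F) :
    ∃ l : List ((E : Subgroup G) × ((E → ℂ) × ℤ)), (∀ t ∈ l, F t.1 ∧ IsCharacter t.1 t.2.1) ∧
      f = (l.map fun t => (t.2.2 : ℂ) • indFun t.1 t.2.1).sum := by
  induction hf using AddSubgroup.closure_induction with
  | mem φ hφ =>
    obtain ⟨E, ψ, hE, hψ, rfl⟩ := hφ
    refine ⟨[⟨E, ψ, 1⟩], ?_, ?_⟩
    · intro t ht
      rw [List.mem_singleton] at ht
      subst ht
      exact ⟨hE, hψ⟩
    · simp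
  | zero => exact ⟨[], by simp, by simp⟩
  | add a b _ _ ha hb =>
    obtain ⟨l₁, h₁, rfl⟩ := ha
    obtain ⟨l₂, h₂, rfl⟩ := hb
    refine ⟨l₁ ++ l₂, ?_, by simp⟩
    intro t ht
    rcases List.mem_append.mp ht with h | h
    · exact h₁ t h
    · exact h₂ t h
  | neg a _ ha =>
    obtain ⟨l, h, rfl⟩ := ha
    refine ⟨l.map fun t => ⟨t.1, t.2.1, -t.2.2⟩, ?_, ?_⟩
    · intro t ht
      obtain ⟨s, hs, rfl⟩ := List.mem_map.mp ht
      exact h s hs
    · exact neg_list_sum l

end span

end Cfsg.Agent.Lib.Helper4
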