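import Mathlib
import Cfsg.Prelude.Def_Characters
import Cfsg.Agent.Lib.Helper4.CharDecomp

set_option autoImplicit false

namespace Cfsg.Agent.Lib.Helper4

open Module Representation
open scoped ComplexConjugate

section equiv

variable {G : Type*} [Group G] [Finite G]

/-- Every nonzero representation has an irreducible direct factor. -/
theorem exists_irr_factor : ∀ (n : ℕ) (ρ : Representation ℂ G (Fin n → ℂ)), 0 < n →
    ∃ (n₁ n₂ : ℕ) (ρ₁ : Representation ℂ G (Fin n₁ → ℂ)) (ρ₂ : Representation ℂ G (Fin n₂ → ℂ)),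
      ρ₁.IsIrreducible ∧ 0 < n₁ ∧ n₁ + n₂ = n ∧ Nonempty (ρ.Equiv (ρ₁.prod ρ₂)) := by
  intro n
  induction n using Nat.strong_induction_on with
  | _ n ih =>
    intro ρ hn
    rcases rep_trichotomy ρ with h | h | ⟨n₁, n₂, ρ₁, ρ₂, h1, h2, h3, ⟨φ⟩⟩
    · rw [Module.finrank_fin_fun] at h
      omega
    · refine ⟨n, 0, ρ, 1, h, hn, by omega, ⟨?_⟩⟩
      exact (Representation.Equiv.mk (LinearEquiv.prodUnique (R := ℂ) (M := Fin n → ℂ)
        (M₂ := Fin 0 → ℂ)) (fun g => by ext v <;> simp)).symm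
    · rw [Module.finrank_fin_fun] at h3
      obtain ⟨m₁, m₂, τ₁, τ₂, hτ, hm₁, hm, ⟨ψ⟩⟩ := ih n₁ (by omega) ρ₁ h1
      obtain ⟨τ₃, ⟨θ⟩⟩ := exists_equiv_fin (τ₂.prod ρ₂)
      refine ⟨m₁, _, τ₁, τ₃, hτ, hm₁, ?_, ⟨?_⟩⟩
      · rw [Module.finrank_prod, Module.finrank_fin_fun, Module.finrank_fin_fun]
        omega
      · exact (φ.trans (equivProdCongr ψ (Representation.Equiv.refl ρ₂))).trans
          ((equivProdAssoc τ₁ τ₂ ρ₂).trans (equivProdCongr (Representation.Equiv.refl τ₁) θ))

/-- An injective intertwining map is an equivalence onto its range. -/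
noncomputable def equivRange {V W : Type*} [AddCommGroup V] [Module ℂ V] [AddCommGroup W]
    [Module ℂ W] {ρ : Representation ℂ G V} {σ : Representation ℂ G W} (f : IntertwiningMap ρ σ)
    (hf : Function.Injective f) : ρ.Equiv f.range.toRepresentation :=
  Representation.Equiv.mk (LinearEquiv.ofInjective f.toLinearMap hf) (fun g => by
    ext v
    exact IntertwiningMap.isIntertwining ρ σ f g v)

theorem equiv_of_char_eq_fin : ∀ (n m : ℕ) (ρ : Representation ℂ G (Fin n → ℂ))
    (σ : Representation ℂ G (Fin m → ℂ)), ρ.character = σ.character → Nonempty (ρ.Equiv σ) := by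
  classical
  have := Fintype.ofFinite G
  intro n
  induction n using Nat.strong_induction_on with
  | _ n ih =>
    intro m ρ σ h
    have hnm : n = m := by
      have h1 := congrFun h 1
      rw [char_one, char_one, Module.finrank_fin_fun, Module.finrank_fin_fun] at h1
      exact_mod_cast h1
    subst hnm
    rcases Nat.eq_zero_or_pos n with rfl | hn
    · exact ⟨Representation.Equiv.mk (LinearEquiv.refl ℂ _) (fun g => by
        ext v i; exact i.elim0)⟩
    obtain ⟨n₁, n₂, ρ₁, ρ₂, hρ₁, hn₁, hn₁₂, ⟨φ⟩⟩ := exists_irr_factor n ρ hn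
    have hχ : ρ.character = ρ₁.character + ρ₂.character := by rw [char_iso φ, char_prod]
    have hne : classInner σ.character ρ₁.character ≠ 0 := by
      rw [← h, hχ, classInner_add_left, classInner_irr_self (isIrrCharacter_of_rep ρ₁)]
      obtain ⟨k, hk⟩ := classInner_char_char (isCharacter_of_rep ρ₂) (isCharacter_of_rep ρ₁)
      rw [hk]
      have : (1 : ℂ) + (k : ℂ) = ((1 + k : ℕ) : ℂ) := by push_cast; rfl
      rw [this]
      exact_mod_cast (by omega : 1 + k ≠ 0)
    rw [classInner_char_eq_finrank ρ₁ σ] at hne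
    have hpos : 0 < finrank ℂ (IntertwiningMap ρ₁ σ) := by
      apply Nat.pos_of_ne_zero
      exact_mod_cast hne
    have hnt : Nontrivial (IntertwiningMap ρ₁ σ) := Module.finrank_pos_iff (R := ℂ).mp hpos
    obtain ⟨f, hf⟩ := exists_ne (0 : IntertwiningMap ρ₁ σ)
    have hinj : Function.Injective f := (IsIrreducible.injective_or_eq_zero f).resolve_right hf
    obtain ⟨U', hc⟩ := exists_isCompl_subrep σ f.range
    obtain ⟨σ₂, ⟨θ⟩⟩ := exists_equiv_fin U'.toRepresentation
    have ψ : σ.Equiv (ρ₁.prod σ₂) :=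
      (equivProdOfIsCompl σ f.range U' hc).symm.trans (equivProdCongr (equivRange f hinj).symm θ)
    have hχ' : σ.character = ρ₁.character + σ₂.character := by rw [char_iso ψ, char_prod]
    have h2 : ρ₂.character = σ₂.character := by
      rw [hχ, hχ'] at h
      exact add_left_cancel h
    obtain ⟨κ⟩ := ih n₂ (by omega) _ ρ₂ σ₂ h2
    exact ⟨(φ.trans (equivProdCongr (Representation.Equiv.refl ρ₁) κ)).trans ψ.symm⟩

/-- Representations with equal characters are equivalent. -/
theorem equiv_of_char_eq {V W : Type*} [AddCommGroup V] [Module ℂ V] [FiniteDimensional ℂ V]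
    [AddCommGroup W] [Module ℂ W] [FiniteDimensional ℂ W] (ρ : Representation ℂ G V)
    (σ : Representation ℂ G W) (h : ρ.character = σ.character) : Nonempty (ρ.Equiv σ) := by
  obtain ⟨ρ', ⟨φ⟩⟩ := exists_equiv_fin ρ
  obtain ⟨σ', ⟨ψ⟩⟩ := exists_equiv_fin σ
  obtain ⟨κ⟩ := equiv_of_char_eq_fin _ _ ρ' σ' (by rw [← char_iso φ, ← char_iso ψ, h])
  exact ⟨(φ.trans κ).trans ψ.symm⟩

end equiv

end Cfsg.Agent.Lib.Helper4
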