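import Mathlib
import Cfsg.Prelude.Def_Characters
import Cfsg.Agent.Lib.Helper4.CharDecomp

set_option autoImplicit false

namespace Cfsg.Agent.Lib.Helper4

open scoped ComplexConjugate

variable {G : Type*} [Group G]

theorem classInner_conj_conj [Fintype G] (φ ψ : G → ℂ) :
    classInner (fun g => conj (φ g)) (fun g => conj (ψ g)) = conj (classInner φ ψ) := by
  simp only [classInner, map_mul, map_inv₀, map_natCast, map_sum]

/-- The complex conjugate of an irreducible character is irreducible. -/
theorem isIrrCharacter_conj [Finite G] {χ : G → ℂ} (h : IsIrrCharacter G χ) :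
    IsIrrCharacter G (fun g => conj (χ g)) := by
  have := Fintype.ofFinite G
  apply isIrrCharacter_of_classInner_self_eq_one (isCharacter_conj (isCharacter_of_irr h))
  rw [classInner_conj_conj, classInner_irr_self h, map_one]

/-- Complex conjugation on `IrrCharacter G`. -/
noncomputable def irrConj [Finite G] (χ : IrrCharacter G) : IrrCharacter G :=
  ⟨fun g => conj ((χ : G → ℂ) g), isIrrCharacter_conj χ.2⟩

@[simp] theorem irrConj_apply [Finite G] (χ : IrrCharacter G) (g : G) :
    (irrConj χ : G → ℂ) g = conj ((χ : G → ℂ) g) := rfl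

@[simp] theorem irrConj_irrConj [Finite G] (χ : IrrCharacter G) : irrConj (irrConj χ) = χ := by
  apply Subtype.ext
  ext g
  simp

theorem irrConj_eq_self_iff [Finite G] (χ : IrrCharacter G) :
    irrConj χ = χ ↔ ∀ g : G, ((χ : G → ℂ) g).im = 0 := by
  constructor
  · intro h g
    have := congrFun (congrArg Subtype.val h) g
    exact Complex.conj_eq_iff_im.mp this
  · intro h
    apply Subtype.ext
    ext g
    exact Complex.conj_eq_iff_im.mpr (h g)

end Cfsg.Agent.Lib.Helper4
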