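import Mathlib
import Cfsg.Agent.Lib.Helper73.BSW.Defs
import Cfsg.Agent.Lib.Helper31.TIPart

/-!
# BSW ladder, rung TICOUNT: the number of non-identity elements conjugate into a TI-subgroup
-/

set_option autoImplicit false

namespace Cfsg.Agent.Lib.Helper4.BSW

open Cfsg Cfsg.Agent.Lib.Helper73.BSW

theorem card_conj_union {G : Type*} [Group G] [Finite G] (A : Subgroup G)
    (hTI : ∀ a ∈ A, a ≠ 1 → ∀ g : G, g * a * g⁻¹ ∈ A → g ∈ Subgroup.normalizer (A : Set G)) :
    Nat.card {z : G // z ≠ 1 ∧ ConjIn A z} * Nat.card (Subgroup.normalizer (A : Set G))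
      = Nat.card G * (Nat.card A - 1) := by
  classical
  have : Fintype G := Fintype.ofFinite G
  have hT : IsTISubset (A : Set G) := by
    intro g hg x hx hgx
    by_contra hx1
    exact hg (hTI x hx hx1 g hgx)
  have h := Cfsg.Agent.Lib.Helper31.ti_sum hT (F := fun _ => (1 : ℂ)) (fun _ _ => rfl)
  have h1 : (∑ g : G, if (g ≠ 1 ∧ ∃ x : G, x * g * x⁻¹ ∈ A) then (1 : ℂ) else 0)
      = (Nat.card {z : G // z ≠ 1 ∧ ConjIn A z} : ℂ) := by
    rw [Finset.sum_boole, Nat.card_eq_fintype_card]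
    congr 1
    symm
    apply Fintype.card_of_subtype
    intro x
    simp [ConjIn]
  have h2 : (∑ a : G, if (a ∈ A ∧ a ≠ 1) then (1 : ℂ) else 0) = ((Nat.card A - 1 : ℕ) : ℂ) := by
    rw [Finset.sum_boole]
    congr 1
    have e : (Finset.univ.filter (fun a : G => a ∈ A ∧ a ≠ 1))
        = (Finset.univ.filter (fun a : G => a ∈ A)).erase 1 := by
      ext a
      simp [and_comm]
    rw [e, Finset.card_erase_of_mem (by simp [A.one_mem]), Nat.card_eq_fintype_card,
      Fintype.card_subtype]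
  rw [h1, h2] at h
  have h3 : Nat.card {z : G // z ≠ 1 ∧ ConjIn A z}
      = (Subgroup.normalizer (A : Set G)).index * (Nat.card A - 1) := by exact_mod_cast h
  rw [h3, ← Subgroup.card_mul_index (Subgroup.normalizer (A : Set G))]
  ring

end Cfsg.Agent.Lib.Helper4.BSW
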