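import Mathlib
import Cfsg.Agent.Lib.Helper73.BSW.Defs
import Cfsg.Agent.Lib.Helper73.BSW.Defs2
import Cfsg.Agent.Lib.Helper91.BSWSrb
import Cfsg.Agent.Lib.Helper4.BSWTicount

/-!
# BSW ladder: the key inequality for a strongly real element outside the conjugates of `K`
-/

set_option autoImplicit false

namespace Cfsg.Agent.Lib.Helper4.BSW

open Cfsg.Agent.Lib.Helper73.BSW Cfsg.Agent.Lib.Helper91.BSW

variable {G : Type*} [Group G] [Fintype G] {K H : Subgroup G} {t : G} {q : ℕ} {X : G → ℤ}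

omit [Fintype G] in
theorem conjIn_conj_iff (g y : G) : ConjIn K (g * y * g⁻¹) ↔ ConjIn K y := by
  constructor
  · exact conjIn_conj
  · intro h
    apply conjIn_conj (g := g⁻¹)
    have : g⁻¹ * (g * y * g⁻¹) * g⁻¹⁻¹ = y := by group
    rw [this]; exact h

omit [Fintype G] in
theorem conj_ne_one {g y : G} (hy : y ≠ 1) : g * y * g⁻¹ ≠ 1 := by
  intro h
  apply hy
  have : y = g⁻¹ * (g * y * g⁻¹) * g := by group
  rw [this, h]; group

/-- `X` is constant on `C(y) - {1}`. -/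
theorem sr_X_const (B : Cfg K H t) {δ : ℤ} (C : CharOut K q δ X) (hq : 2 ≤ q) {y : G}
    (hy : ¬ ConjIn K y) (hs : SReal y) :
    ∀ z ∈ Subgroup.centralizer ({y} : Set G), z ≠ 1 → X z = X y := by
  intro z hz h1
  obtain ⟨u, hu, huy⟩ := hs
  have hzK := sr_cent_out B hy z hz h1
  have hsz : SReal z := ⟨u, hu, sr_inverts B hy hu huy z hz⟩
  have e1 := sr_aCount B hzK hsz
  have e2 := sr_aCount B hy ⟨u, hu, huy⟩
  rw [sr_cent_eq B hy ⟨u, hu, huy⟩ z hz h1] at e1
  have f1 := C.aform z hzK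
  have f2 := C.aform y hy
  rw [e1] at f1
  rw [e2] at f2
  have h3 : ((q : ℤ) - 1) * (X z - X y) = 0 := by linear_combination f2 - f1
  have hq1 : ((q : ℤ) - 1) ≠ 0 := by
    have : (2 : ℤ) ≤ q := by exact_mod_cast hq
    omega
  rcases mul_eq_zero.mp h3 with h | h
  · exact absurd h hq1
  · linarith

/-- `C(y)` is a TI-subgroup. -/
theorem sr_ti (B : Cfg K H t) {y : G} (hy : ¬ ConjIn K y) (hs : SReal y) :
    ∀ a ∈ Subgroup.centralizer ({y} : Set G), a ≠ 1 → ∀ g : G,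
      g * a * g⁻¹ ∈ Subgroup.centralizer ({y} : Set G) →
      g ∈ Subgroup.normalizer ((Subgroup.centralizer ({y} : Set G) : Subgroup G) : Set G) := by
  intro a ha ha1 g hg
  have e1 := sr_cent_eq B hy hs a ha ha1
  have e2 := sr_cent_eq B hy hs _ hg (conj_ne_one ha1)
  rw [Subgroup.mem_normalizer_iff]
  intro h
  nth_rewrite 1 [← e1]
  rw [← e2, mem_cent, mem_cent]
  constructor
  · intro hh
    calc g * h * g⁻¹ * (g * a * g⁻¹) = g * (h * a) * g⁻¹ := by group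
      _ = g * (a * h) * g⁻¹ := by rw [hh]
      _ = g * a * g⁻¹ * (g * h * g⁻¹) := by group
  · intro hh
    calc h * a = g⁻¹ * (g * h * g⁻¹ * (g * a * g⁻¹)) * g := by group
      _ = g⁻¹ * (g * a * g⁻¹ * (g * h * g⁻¹)) * g := by rw [hh]
      _ = a * h := by group

/-- The key inequality. -/
theorem sr_key (B : Cfg K H t) {δ : ℤ} (C : CharOut K q δ X) (hq : 2 ≤ q) {y : G}
    (hy : ¬ ConjIn K y) (hty : t * y * t⁻¹ = y⁻¹) :
    (q : ℤ) * ((Nat.card (Subgroup.centralizer ({y} : Set G)) : ℤ) - 1) * (X y + δ) ^ 2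
      ≤ 2 * (Nat.card (Subgroup.centralizer ({y} : Set G)) : ℤ)
        * (Nat.card (Subgroup.normalizer
          ((Subgroup.centralizer ({y} : Set G) : Subgroup G) : Set G) ⊓ K : Subgroup G) : ℤ) := by
  classical
  have hs : SReal y := ⟨t, B.ot, hty⟩
  set A := Subgroup.centralizer ({y} : Set G) with hA
  obtain ⟨-, -, -, hN, -⟩ := sr_normalizer B hy hty A _ hA rfl
  set E : Subgroup G := Subgroup.normalizer (A : Set G) ⊓ K with hE
  have hcount := card_conj_union A (sr_ti B hy hs)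
  rw [hN] at hcount
  set S := Nat.card {z : G // z ≠ 1 ∧ ConjIn A z} with hS
  have hXS : ∀ z : G, z ≠ 1 → ConjIn A z → ¬ ConjIn K z ∧ X z = X y := by
    rintro z hz1 ⟨g, hg⟩
    refine ⟨fun h => sr_cent_out B hy _ hg (conj_ne_one hz1) ((conjIn_conj_iff g z).2 h), ?_⟩
    rw [← C.Xcl g z]
    exact sr_X_const B C hq hy hs _ hg (conj_ne_one hz1)
  have hle : (S : ℤ) * (X y + δ) ^ 2 ≤ (q : ℤ) ^ 2 - 1 := by
    rw [← C.sumY]
    have h1 : (S : ℤ) * (X y + δ) ^ 2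
        = ∑ z : G, (if (z ≠ 1 ∧ ConjIn A z) then (X y + δ) ^ 2 else 0) := by
      rw [← Finset.sum_filter, Finset.sum_const, nsmul_eq_mul, hS, Nat.card_eq_fintype_card]
      congr 2
      apply Fintype.card_of_subtype
      intro x
      simp
    rw [h1]
    apply Finset.sum_le_sum
    intro z _
    by_cases hz : z ≠ 1 ∧ ConjIn A z
    · obtain ⟨h2, h3⟩ := hXS z hz.1 hz.2
      rw [if_pos hz, if_neg h2, h3]
    · rw [if_neg hz]
      split_ifs
      · exact le_refl _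
      · positivity
  have hA1 : 1 ≤ Nat.card A := Nat.card_pos
  have hcz : (S : ℤ) * ((Nat.card A : ℤ) * (Nat.card E : ℤ))
      = (Nat.card G : ℤ) * ((Nat.card A : ℤ) - 1) := by
    have := congrArg (fun n : ℕ => (n : ℤ)) hcount
    push_cast [hA1] at this
    exact this
  have hq2 : (0 : ℤ) < (q : ℤ) ^ 2 - 1 := by
    have : (2 : ℤ) ≤ q := by exact_mod_cast hq
    nlinarith
  have hAE : (0 : ℤ) ≤ (Nat.card A : ℤ) * (Nat.card E : ℤ) := by positivity
  have h5 := mul_le_mul_of_nonneg_right hle hAE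
  have h6 : ((q : ℤ) ^ 2 - 1) * ((q : ℤ) * ((Nat.card A : ℤ) - 1) * (X y + δ) ^ 2)
      ≤ ((q : ℤ) ^ 2 - 1) * (2 * (Nat.card A : ℤ) * (Nat.card E : ℤ)) := by
    have e : ((q : ℤ) ^ 2 - 1) * ((q : ℤ) * ((Nat.card A : ℤ) - 1) * (X y + δ) ^ 2)
        = 2 * ((S : ℤ) * (X y + δ) ^ 2 * ((Nat.card A : ℤ) * (Nat.card E : ℤ))) := by
      linear_combination (-((Nat.card A : ℤ) - 1) * (X y + δ) ^ 2) * C.cardG
        - 2 * (X y + δ) ^ 2 * hcz
    rw [e]
    linarith
  exact le_of_mul_le_mul_left h6 hq2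

end Cfsg.Agent.Lib.Helper4.BSW
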