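import Mathlib
import Cfsg.Agent.Lib.Helper4.BSWKey

/-!
# BSW ladder, rung PLUS: the case `δ = 1`
-/

set_option autoImplicit false

namespace Cfsg.Agent.Lib.Helper4.BSW

open Cfsg.Agent.Lib.Helper73.BSW Cfsg.Agent.Lib.Helper91.BSW

theorem cfg_normalizer' {G : Type*} [Group G] {K H : Subgroup G} {t : G} (B : Cfg K H t)
    (X : Subgroup G) (hXK : X ≤ K) (hX : X ≠ ⊥) : Subgroup.normalizer (X : Set G) = H := by
  obtain ⟨c, hc, hc1⟩ : ∃ c ∈ X, c ≠ 1 := by
    by_contra hcon
    push Not at hcon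
    exact hX ((Subgroup.eq_bot_iff_forall X).mpr hcon)
  apply le_antisymm
  · intro g hg
    exact B.ti c (hXK hc) hc1 g (hXK ((Subgroup.mem_normalizer_iff.mp hg c).mp hc))
  · have key : ∀ x ∈ H, ∀ c ∈ X, x * c * x⁻¹ ∈ X := by
      intro x hx c hc
      by_cases hxK : x ∈ K
      · rw [B.comm x hxK c (hXK hc)]
        simpa using hc
      · rw [B.inv x hx hxK c (hXK hc)]; exact X.inv_mem hc
    intro x hx
    rw [Subgroup.mem_normalizer_iff]
    intro c
    refine ⟨key x hx c, fun h => ?_⟩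
    have := key x⁻¹ (H.inv_mem hx) _ h
    simpa [mul_assoc] using this

theorem cfg_dprop {G : Type*} [Group G] {K H : Subgroup G} {t : G} (B : Cfg K H t) : DProp K := by
  have hK : K ≠ ⊥ := by
    intro h
    have := B.tK
    rw [h, Subgroup.mem_bot] at this
    exact ne_one_of_order_two B.ot this
  intro X hXK hX
  rw [cfg_normalizer' B X hXK hX, cfg_normalizer' B K le_rfl hK]
  refine ⟨rfl, ?_⟩
  obtain ⟨s, hsH, hsK⟩ := B.ex
  refine ⟨s, B.invol s hsH hsK, hsK, B.inv s hsH hsK, ?_⟩
  apply le_antisymm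
  · intro x hx
    by_cases hxK : x ∈ K
    · exact Subgroup.mem_sup_left hxK
    · have h1 := B.mulK x hx hxK s hsH hsK
      have : x = (x * s) * s⁻¹ := by group
      rw [this]
      exact Subgroup.mul_mem_sup h1 (Subgroup.inv_mem _ (Subgroup.mem_zpowers s))
  · rw [sup_le_iff]
    refine ⟨B.KH, ?_⟩
    rw [Subgroup.zpowers_le]
    exact hsH

variable {G : Type*} [Group G] [Fintype G] {K H : Subgroup G} {t : G} {q : ℕ} {X : G → ℤ}

theorem plus (B : Cfg K H t) (C : CharOut K q 1 X) (h4 : 4 ≤ Nat.card K) : Concl G := by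
  classical
  have hK : 2 * (Nat.card K : ℤ) = q - 1 := C.cardK
  have h4z : (4 : ℤ) ≤ (Nat.card K : ℤ) := by exact_mod_cast h4
  have hq9 : 9 ≤ q := by omega
  have hq9z : (9 : ℤ) ≤ (q : ℤ) := by exact_mod_cast hq9
  set m : ℤ := (Nat.card K : ℤ) with hm
  -- an element outside the conjugates of `K` with `X ≠ -1`
  have hex : ∃ y : G, ¬ ConjIn K y ∧ X y ≠ -1 := by
    by_contra hcon
    push Not at hcon
    have h0 : ∑ y : G, (if ConjIn K y then 0 else (X y + 1) ^ 2) = 0 := by
      apply Finset.sum_eq_zero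
      intro y _
      split_ifs with h
      · rfl
      · rw [hcon y h]; norm_num
    rw [C.sumY] at h0
    nlinarith
  obtain ⟨y0, hy0, hx0⟩ := hex
  have haf : ∀ y : G, ¬ ConjIn K y → (aCount y : ℤ) = q + m * X y := by
    intro y hy
    have := C.aform y hy
    have h2 : 2 * (aCount y : ℤ) = 2 * (q + m * X y) := by
      linear_combination this - X y * hK
    linarith
  have hs0 : SReal y0 := by
    by_contra hs
    have h1 := haf y0 hy0
    rw [sr_aCount_zero B hy0 hs] at h1
    have h2 : m * (2 + X y0) = -1 := by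
      push_cast at h1
      linear_combination hK - h1
    rcases le_or_gt 0 (2 + X y0) with h | h
    · nlinarith
    · nlinarith
  obtain ⟨g, hty⟩ := sr_conj_t B hs0
  set y := g * y0 * g⁻¹ with hydef
  have hy : ¬ ConjIn K y := fun h => hy0 ((conjIn_conj_iff g y0).1 h)
  have hXy : X y = X y0 := C.Xcl g y0
  have hs : SReal y := ⟨t, B.ot, hty⟩
  set A := Subgroup.centralizer ({y} : Set G) with hA
  set x := X y with hx
  have hx1 : x ≠ -1 := by rw [hXy]; exact hx0
  have hcA : (Nat.card A : ℤ) = q + m * x := by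
    rw [← sr_aCount B hy hs]; exact haf y hy
  have hy1 : y ≠ 1 := by
    intro h
    apply hy
    rw [h]; exact conjIn_one
  have hA2 : 2 ≤ Nat.card A := by
    have hne : A ≠ ⊥ := by
      intro h
      have : y ∈ A := mem_cent.2 rfl
      rw [h, Subgroup.mem_bot] at this
      exact hy1 this
    exact (Subgroup.one_lt_card_iff_ne_bot A).2 hne
  have hA2z : (2 : ℤ) ≤ (Nat.card A : ℤ) := by exact_mod_cast hA2
  have hx0' : 0 ≤ x := by
    by_contra hneg
    have hx2 : x ≤ -2 := by omega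
    nlinarith
  obtain ⟨-, hinf, hN, -, -⟩ := sr_normalizer B hy hty A _ hA rfl
  have key := sr_key B C (by omega) hy hty
  rw [← hA, ← hx] at key
  set E : Subgroup G := Subgroup.normalizer (A : Set G) ⊓ K with hE
  have hEK : Nat.card E ≤ Nat.card K := Subgroup.card_le_of_le inf_le_right
  have hEKz : (Nat.card E : ℤ) ≤ m := by
    show (Nat.card E : ℤ) ≤ (Nat.card K : ℤ)
    exact_mod_cast hEK
  set a : ℤ := (Nat.card A : ℤ) with ha
  set e : ℤ := (Nat.card E : ℤ) with he
  have hxz : x = 0 := by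
    by_contra hne
    have hx1' : 1 ≤ x := by omega
    have h1 : (q : ℤ) * (a - 1) * 4 ≤ (q : ℤ) * (a - 1) * (x + 1) ^ 2 := by
      apply mul_le_mul_of_nonneg_left
      · nlinarith
      · apply mul_nonneg <;> linarith
    have h2 : 2 * a * e ≤ 2 * a * m := by
      apply mul_le_mul_of_nonneg_left hEKz
      linarith
    have h3 : 2 * a * m = a * ((q : ℤ) - 1) := by rw [← hK]; ring
    nlinarith
  rw [hxz] at hcA key
  have haq : a = q := by rw [hcA]; ring
  have hcAq : Nat.card A = q := by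
    have : (Nat.card A : ℤ) = (q : ℤ) := haq
    exact_mod_cast this
  have hem : m ≤ e := by
    rw [haq] at key
    have hq0 : (0 : ℤ) < q := by linarith
    have h1 : (q : ℤ) * ((q : ℤ) - 1) ≤ (q : ℤ) * (2 * e) := by linarith
    have h2 := le_of_mul_le_mul_left h1 hq0
    linarith
  have hEeq : E = K := by
    apply Subgroup.eq_of_le_of_card_ge inf_le_right
    have : (Nat.card K : ℤ) ≤ (Nat.card E : ℤ) := hem
    exact_mod_cast this
  refine ⟨A, K, ?_, ?_, ⟨⟨fun a b => Subtype.ext (B.comm a a.2 b b.2)⟩⟩, ?_, ?_, ?_, cfg_dprop B⟩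
  · rw [hcAq]
    have := C.cardG
    zify [show 1 ≤ q by omega]
    exact this
  · intro z hz hz1
    exact sr_cent_eq B hy hs z hz hz1
  · rw [hcAq]
    omega
  · rw [← hEeq]; exact hinf
  · rw [hN, hEeq]

end Cfsg.Agent.Lib.Helper4.BSW
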