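import Mathlib
import Cfsg.Agent.Lib.Helper73.BSW.Defs
import Cfsg.Agent.Lib.Helper73.BSW.CharDefs
import Cfsg.Agent.Lib.Helper4.CharIntegral
import Cfsg.Agent.Lib.Helper4.BSWTicount

/-!
# BSW ladder, rung COUT: from the values of the exceptional character to `CharOut`
-/

set_option autoImplicit false

namespace Cfsg.Agent.Lib.Helper4.BSW

open Cfsg Cfsg.Agent.Lib.Helper73.BSW

theorem cfg_card_H {G : Type*} [Group G] [Finite G] {K H : Subgroup G} {t : G} (B : Cfg K H t) :
    Nat.card H = 2 * Nat.card K := by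
  obtain ⟨s, hsH, hsK⟩ := B.ex
  have h2 : (K.subgroupOf H).index = 2 := by
    rw [Subgroup.index_eq_two_iff]
    refine ⟨⟨s, hsH⟩, fun b => ?_⟩
    by_cases hb : (b : G) ∈ K
    · right
      refine ⟨Subgroup.mem_subgroupOf.mpr hb, fun h => hsK ?_⟩
      have h' : (b : G) * s ∈ K := Subgroup.mem_subgroupOf.mp h
      have := K.mul_mem (K.inv_mem hb) h'
      simpa using this
    · left
      exact ⟨Subgroup.mem_subgroupOf.mpr (B.mulK b b.2 hb s hsH hsK),
        fun h => hb (Subgroup.mem_subgroupOf.mp h)⟩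
  have h3 := (K.subgroupOf H).card_mul_index
  rw [h2] at h3
  have h4 : Nat.card (K.subgroupOf H) = Nat.card K :=
    Nat.card_congr (Subgroup.subgroupOfEquivOfLe B.KH).toEquiv
  omega

theorem cfg_normalizer {G : Type*} [Group G] {K H : Subgroup G} {t : G} (B : Cfg K H t) :
    Subgroup.normalizer (K : Set G) = H := by
  apply le_antisymm
  · intro g hg
    have ht1 : t ≠ 1 := by
      intro h
      have := B.ot
      rw [h, orderOf_one] at this
      omega
    exact B.ti t B.tK ht1 g ((Subgroup.mem_normalizer_iff.mp hg t).mp B.tK)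
  · have key : ∀ x ∈ H, ∀ c ∈ K, x * c * x⁻¹ ∈ K := by
      intro x hx c hc
      by_cases hxK : x ∈ K
      · exact K.mul_mem (K.mul_mem hxK hc) (K.inv_mem hxK)
      · rw [B.inv x hx hxK c hc]; exact K.inv_mem hc
    intro x hx
    rw [Subgroup.mem_normalizer_iff]
    intro c
    refine ⟨key x hx c, fun h => ?_⟩
    have := key x⁻¹ (H.inv_mem hx) _ h
    simpa [mul_assoc] using this

variable {G : Type*} [Group G] [Fintype G] {K H : Subgroup G} {t : G}

theorem charOut_of_val (B : Cfg K H t) (X : G → ℂ) (hX : IsIrrCharacter G X)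
    (hX1 : X ≠ fun _ => 1) (q : ℕ) (δ : ℤ) (hδ : δ = 1 ∨ δ = -1) (hq : X 1 = q)
    (h4 : 4 ≤ Nat.card K) (hK : 2 * (Nat.card K : ℤ) = q - δ)
    (hn : 2 * (H.index : ℤ) = q * (q + δ)) (hXK : ∀ x ∈ K, x ≠ 1 → X x = δ)
    (hval : ∀ y : G, ¬ ConjIn K y → 2 * (aCount y : ℂ) = (1 + δ) * q + (q - 1) * X y) :
    ∃ Xz : G → ℤ, CharOut K q δ Xz := by
  classical
  have hXc : IsCharacter G X := isCharacter_of_irr hX
  have hcl : IsClassFunction G X := isClassFunction_of_char hXc
  have hδ2 : δ ^ 2 = 1 := by rcases hδ with h | h <;> rw [h] <;> norm_num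
  have hq7 : 7 ≤ q := by
    have : (4 : ℤ) ≤ (Nat.card K : ℤ) := by exact_mod_cast h4
    rcases hδ with h | h <;> rw [h] at hK <;> omega
  have hne1 : ∀ (g y : G), y ≠ 1 → g * y * g⁻¹ ≠ 1 := by
    intro g y hy h
    apply hy
    have : y = g⁻¹ * (g * y * g⁻¹) * g := by group
    rw [this, h]; group
  have hconjval : ∀ y : G, y ≠ 1 → ConjIn K y → X y = δ := by
    rintro y hy1 ⟨g, hg⟩
    rw [← hcl y g]
    exact hXK _ hg (hne1 g y hy1)
  have hint : ∀ y : G, ∃ z : ℤ, X y = z := by
    intro y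
    by_cases hy : ConjIn K y
    · by_cases hy1 : y = 1
      · exact ⟨q, by rw [hy1, hq]; simp⟩
      · exact ⟨δ, hconjval y hy1 hy⟩
    · have h1 := hval y hy
      have hq1 : ((q : ℂ) - 1) ≠ 0 := by
        have : (q : ℂ) ≠ 1 := by
          intro h
          have : q = 1 := by exact_mod_cast h
          omega
        exact sub_ne_zero.mpr this
      have h2 : X y = (((2 * (aCount y : ℚ) - (1 + (δ : ℚ)) * q) / ((q : ℚ) - 1) : ℚ) : ℂ) := by
        push_cast
        field_simp
        linear_combination -h1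
      obtain ⟨z, hz⟩ := exists_int_of_isIntegral_rat
        (q := (2 * (aCount y : ℚ) - (1 + (δ : ℚ)) * q) / ((q : ℚ) - 1))
        (by rw [← h2]; exact Cfsg.Agent.Lib.Helper20.isCharacter_isIntegral hXc y)
      exact ⟨z, by rw [h2, hz]; simp⟩
  choose Xz hXz using hint
  have hXz1 : Xz 1 = q := by
    have : ((Xz 1 : ℤ) : ℂ) = ((q : ℤ) : ℂ) := by rw [← hXz, hq]; simp
    exact_mod_cast this
  have hXzK : ∀ y : G, y ≠ 1 → ConjIn K y → Xz y = δ := by
    intro y hy1 hy
    have : ((Xz y : ℤ) : ℂ) = (δ : ℂ) := by rw [← hXz, hconjval y hy1 hy]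
    exact_mod_cast this
  have hG0 : (Nat.card G : ℂ) ≠ 0 := by exact_mod_cast Nat.card_pos.ne'
  -- cardinalities
  have hcH := cfg_card_H B
  have hcG : Nat.card G = 2 * Nat.card K * H.index := by rw [← hcH, Subgroup.card_mul_index]
  have hcGz : (Nat.card G : ℤ) = 2 * (Nat.card K : ℤ) * (H.index : ℤ) := by exact_mod_cast hcG
  -- orthogonality relations in ℤ
  have hsq : ∑ y : G, Xz y ^ 2 = (Nat.card G : ℤ) := by
    have h1 := classInner_irr_self hX
    unfold classInner at h1
    have h2 : ∑ g : G, X g * (starRingEnd ℂ) (X g) = (Nat.card G : ℂ) := by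
      field_simp at h1
      exact h1
    have h3 : ((∑ y : G, Xz y ^ 2 : ℤ) : ℂ) = ((Nat.card G : ℤ) : ℂ) := by
      push_cast
      rw [← h2]
      apply Finset.sum_congr rfl
      intro g _
      rw [hXz g, map_intCast, sq]
    exact_mod_cast h3
  have hs1 : ∑ y : G, Xz y = 0 := by
    have h1 := classInner_irr_ne hX isIrrCharacter_one hX1
    unfold classInner at h1
    have h2 : ∑ g : G, X g * (starRingEnd ℂ) (1 : ℂ) = 0 := by
      rcases mul_eq_zero.mp h1 with h | h
      · exact absurd (inv_eq_zero.mp h) hG0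
      · exact h
    have h3 : ((∑ y : G, Xz y : ℤ) : ℂ) = ((0 : ℤ) : ℂ) := by
      push_cast
      rw [← h2]
      apply Finset.sum_congr rfl
      intro g _
      rw [hXz g]; simp
    exact_mod_cast h3
  have hall : ∑ y : G, (Xz y + δ) ^ 2 = 2 * (Nat.card G : ℤ) := by
    have : ∀ y : G, (Xz y + δ) ^ 2 = Xz y ^ 2 + 2 * δ * Xz y + 1 := by
      intro y
      linear_combination hδ2
    simp_rw [this]
    rw [Finset.sum_add_distrib, Finset.sum_add_distrib, ← Finset.mul_sum, hsq, hs1]
    simp [Nat.card_eq_fintype_card]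
    ring
  -- the count of elements conjugate into K
  have hcount : (Nat.card {z : G // z ≠ 1 ∧ ConjIn K z} : ℤ)
      = (H.index : ℤ) * ((Nat.card K : ℤ) - 1) := by
    have h1 := card_conj_union K (fun a ha ha1 g hg => by
      rw [cfg_normalizer B]; exact B.ti a ha ha1 g hg)
    rw [cfg_normalizer B, ← Subgroup.card_mul_index H] at h1
    have hH0 : 0 < Nat.card H := Nat.card_pos
    have h2 : Nat.card {z : G // z ≠ 1 ∧ ConjIn K z} = H.index * (Nat.card K - 1) := by
      have : Nat.card H * Nat.card {z : G // z ≠ 1 ∧ ConjIn K z}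
          = Nat.card H * (H.index * (Nat.card K - 1)) := by
        rw [mul_comm, h1]; ring
      exact Nat.eq_of_mul_eq_mul_left hH0 this
    rw [h2]
    have : 1 ≤ Nat.card K := by omega
    push_cast [this]
    ring
  have hin : ∑ y : G, (if ConjIn K y then (Xz y + δ) ^ 2 else 0)
      = ((q : ℤ) + δ) ^ 2 + 4 * (Nat.card {z : G // z ≠ 1 ∧ ConjIn K z} : ℤ) := by
    have h1 : ∀ y : G, (if ConjIn K y then (Xz y + δ) ^ 2 else 0)
        = (if y = 1 then ((q : ℤ) + δ) ^ 2 else 0)
          + 4 * (if (y ≠ 1 ∧ ConjIn K y) then (1 : ℤ) else 0) := by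
      intro y
      by_cases hy1 : y = 1
      · subst hy1
        have : ConjIn K (1 : G) := ⟨1, by simp [K.one_mem]⟩
        simp [this, hXz1]
      · by_cases hy : ConjIn K y
        · rw [if_pos hy, if_neg hy1, if_pos ⟨hy1, hy⟩, hXzK y hy1 hy]
          linear_combination 4 * hδ2
        · rw [if_neg hy, if_neg hy1, if_neg (fun h => hy h.2)]
          simp
    simp_rw [h1]
    rw [Finset.sum_add_distrib, ← Finset.mul_sum, Finset.sum_ite_eq' Finset.univ (1 : G),
      if_pos (Finset.mem_univ _), Finset.sum_boole, Nat.card_eq_fintype_card]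
    congr 3
    symm
    apply Fintype.card_of_subtype
    intro x
    simp
  refine ⟨Xz, ⟨hδ, hK, ?_, hXz1, ?_, ?_, ?_, ?_⟩⟩
  · -- cardG
    rw [hcGz]
    have : (2 * (Nat.card K : ℤ)) * (2 * (H.index : ℤ)) = (q - δ) * (q * (q + δ)) := by
      rw [hK, hn]
    linear_combination this - (q : ℤ) * hδ2
  · -- class function
    intro g x
    have : ((Xz (g * x * g⁻¹) : ℤ) : ℂ) = ((Xz x : ℤ) : ℂ) := by
      rw [← hXz, ← hXz, hcl x g]
    exact_mod_cast this
  · -- dvd
    intro A x hA
    obtain ⟨N, hN⟩ := classInner_char_char (isCharacter_restrict hXc A)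
      (isCharacter_one (G := A))
    unfold classInner at hN
    have hA0 : (Nat.card A : ℂ) ≠ 0 := by exact_mod_cast Nat.card_pos.ne'
    have h1 : ∑ a : A, X a * (starRingEnd ℂ) (1 : ℂ) = (N : ℂ) * (Nat.card A : ℂ) := by
      field_simp at hN
      rw [hN]; ring
    have h2 : ∑ a : A, X a * (starRingEnd ℂ) (1 : ℂ)
        = ((Nat.card A : ℤ) * x + (q - x) : ℤ) := by
      have h3 : ∀ a : A, X a * (starRingEnd ℂ) (1 : ℂ)
          = (x : ℂ) + (if a = 1 then ((q : ℂ) - x) else 0) := by
        intro a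
        by_cases ha : a = 1
        · subst ha
          simp [hq]
        · rw [if_neg ha, hXz, hA a a.2 (fun h => ha (Subtype.ext h))]
          simp
      simp_rw [h3]
      rw [Finset.sum_add_distrib, Finset.sum_ite_eq' Finset.univ (1 : A),
        if_pos (Finset.mem_univ _)]
      simp [Nat.card_eq_fintype_card]
    rw [h2] at h1
    have h5 : (Nat.card A : ℤ) * x + (q - x) = (N : ℤ) * (Nat.card A : ℤ) := by exact_mod_cast h1
    exact ⟨N - x, by linear_combination h5⟩
  · -- aform
    intro y hy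
    have h1 := hval y hy
    rw [hXz y] at h1
    exact_mod_cast h1
  · -- sumY
    have h1 : ∀ y : G, (if ConjIn K y then 0 else (Xz y + δ) ^ 2)
        = (Xz y + δ) ^ 2 - (if ConjIn K y then (Xz y + δ) ^ 2 else 0) := by
      intro y
      split_ifs <;> simp
    simp_rw [h1]
    rw [Finset.sum_sub_distrib, hall, hin, hcount, hcGz]
    linear_combination 2 * hn - hδ2

end Cfsg.Agent.Lib.Helper4.BSW
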