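import Mathlib

/-!
# BSW ladder, rung DUAL: the dual group of a finite abelian group
-/

set_option autoImplicit false

namespace Cfsg.Agent.Lib.Helper4.BSW

theorem dual_enough (A : Type*) [CommGroup A] [Finite A] :
    HasEnoughRootsOfUnity ℂ (Monoid.exponent A) := by
  have h0 : Monoid.exponent A ≠ 0 := Monoid.exponent_ne_zero_of_finite
  have : NeZero ((Monoid.exponent A : ℕ) : ℂ) := ⟨by exact_mod_cast h0⟩
  infer_instance

theorem dual_card {A : Type*} [CommGroup A] [Finite A] : Nat.card (A →* ℂˣ) = Nat.card A := by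
  have := dual_enough A
  exact CommGroup.card_monoidHom_of_hasEnoughRootsOfUnity A ℂ

theorem dual_sum {A : Type*} [CommGroup A] [Finite A] [Fintype (A →* ℂˣ)] (x : A) (hx : x ≠ 1) :
    ∑ lam : A →* ℂˣ, ((lam x : ℂˣ) : ℂ) = 0 := by
  have := dual_enough A
  obtain ⟨μ, hμ⟩ := CommGroup.exists_apply_ne_one_of_hasEnoughRootsOfUnity A ℂ hx
  have h1 : ∑ lam : A →* ℂˣ, ((lam x : ℂˣ) : ℂ)
      = ((μ x : ℂˣ) : ℂ) * ∑ lam : A →* ℂˣ, ((lam x : ℂˣ) : ℂ) := by
    rw [Finset.mul_sum, ← Equiv.sum_comp (Equiv.mulLeft μ)]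
    apply Finset.sum_congr rfl
    intro lam _
    simp
  have h2 : ((μ x : ℂˣ) : ℂ) ≠ 1 := by
    intro h
    exact hμ (Units.ext h)
  have h3 : (1 - ((μ x : ℂˣ) : ℂ)) * ∑ lam : A →* ℂˣ, ((lam x : ℂˣ) : ℂ) = 0 := by
    rw [sub_mul, one_mul, ← h1, sub_self]
  rcases mul_eq_zero.mp h3 with h | h
  · exact absurd (sub_eq_zero.mp h).symm h2
  · exact h

theorem dual_real_unique {A : Type*} [CommGroup A] [Finite A] (t : A) (ht : orderOf t = 2)
    (huniq : ∀ c : A, orderOf c = 2 → c = t) : ∃! tau : A →* ℂˣ, tau ≠ 1 ∧ tau⁻¹ = tau := by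
  have := dual_enough A
  obtain ⟨e⟩ := CommGroup.monoidHom_mulEquiv_of_hasEnoughRootsOfUnity A ℂ
  have key : ∀ tau : A →* ℂˣ, (tau ≠ 1 ∧ tau⁻¹ = tau) ↔ orderOf (e tau) = 2 := by
    intro tau
    rw [orderOf_eq_iff (by norm_num)] 
    constructor
    · rintro ⟨h1, h2⟩
      refine ⟨?_, ?_⟩
      · rw [← map_pow, sq]
        nth_rewrite 1 [← h2]
        simp
      · intro m hm hm0
        have : m = 1 := by omega
        subst this
        rw [pow_one]
        intro h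
        exact h1 (e.map_eq_one_iff.mp h)
    · rintro ⟨h1, h2⟩
      refine ⟨?_, ?_⟩
      · intro h
        apply h2 1 (by norm_num) (by norm_num)
        rw [h]; simp
      · rw [← map_pow] at h1
        have h3 : tau ^ 2 = 1 := e.map_eq_one_iff.mp h1
        apply MonoidHom.ext
        intro a
        have h4 : (tau a) ^ 2 = 1 := by
          have := DFunLike.congr_fun h3 a
          simpa using this
        rw [MonoidHom.inv_apply, inv_eq_iff_mul_eq_one, ← sq]
        exact h4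
  refine ⟨e.symm t, (key _).2 (by simpa using ht), ?_⟩
  intro tau htau
  have := huniq _ ((key tau).1 htau)
  rw [← this]; simp

theorem dual_conj {A : Type*} [CommGroup A] [Finite A] (lam : A →* ℂˣ) (y : A) :
    (starRingEnd ℂ) ((lam y : ℂˣ) : ℂ) = ((lam y⁻¹ : ℂˣ) : ℂ) := by
  have h1 : ((lam y : ℂˣ) : ℂ) ^ (orderOf y) = 1 := by
    rw [← Units.val_pow_eq_pow_val, ← map_pow, pow_orderOf_eq_one]; simp
  have h2 : ‖((lam y : ℂˣ) : ℂ)‖ = 1 :=
    Complex.norm_eq_one_of_pow_eq_one h1 (orderOf_pos y).ne'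
  rw [map_inv, Units.val_inv_eq_inv_val, Complex.inv_eq_conj h2]

theorem dual_fourier {A : Type*} [CommGroup A] [Fintype A] [Fintype (A →* ℂˣ)] (f : A → ℂ)
    (x : A) : f x = (Nat.card A : ℂ)⁻¹ * ∑ lam : A →* ℂˣ,
      (∑ y : A, f y * (starRingEnd ℂ) ((lam y : ℂˣ) : ℂ)) * ((lam x : ℂˣ) : ℂ) := by
  classical
  have h1 : ∑ lam : A →* ℂˣ, (∑ y : A, f y * (starRingEnd ℂ) ((lam y : ℂˣ) : ℂ))
        * ((lam x : ℂˣ) : ℂ)
      = ∑ y : A, f y * ∑ lam : A →* ℂˣ, ((lam (y⁻¹ * x) : ℂˣ) : ℂ) := by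
    simp_rw [Finset.sum_mul, Finset.mul_sum]
    rw [Finset.sum_comm]
    apply Finset.sum_congr rfl
    intro y _
    apply Finset.sum_congr rfl
    intro lam _
    rw [dual_conj, map_mul, Units.val_mul, mul_assoc]
  have h2 : ∀ y : A, (∑ lam : A →* ℂˣ, ((lam (y⁻¹ * x) : ℂˣ) : ℂ))
      = if y = x then (Nat.card A : ℂ) else 0 := by
    intro y
    split_ifs with h
    · subst h
      simp only [inv_mul_cancel, map_one, Units.val_one, Finset.sum_const, nsmul_eq_mul, mul_one]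
      rw [← dual_card (A := A), Nat.card_eq_fintype_card]
      rfl
    · apply dual_sum
      intro h'
      apply h
      rw [inv_mul_eq_one] at h'
      exact h'
  have hA : (Nat.card A : ℂ) ≠ 0 := by exact_mod_cast Nat.card_pos.ne'
  rw [h1]
  simp_rw [h2]
  rw [Finset.sum_eq_single x (fun y _ hy => by rw [if_neg hy, mul_zero])
    (fun h => absurd (Finset.mem_univ x) h), if_pos rfl]
  field_simp

end Cfsg.Agent.Lib.Helper4.BSW
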