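import Mathlib
import Cfsg.Agent.Lib.Helper4.BSWKey

/-!
# BSW ladder, rung MA: strongly real elements outside the conjugates of `K`, case `δ = -1`
-/

set_option autoImplicit false

namespace Cfsg.Agent.Lib.Helper4.BSW

open Cfsg.Agent.Lib.Helper73.BSW Cfsg.Agent.Lib.Helper91.BSW

variable {G : Type*} [Group G] [Fintype G] {K H : Subgroup G} {t : G} {q : ℕ} {X : G → ℤ}

theorem stA (B : Cfg K H t) (C : CharOut K q (-1) X) (h4 : 4 ≤ Nat.card K) : StA K q X := by
  classical
  intro y0 hy0 hs0
  have hK : 2 * (Nat.card K : ℤ) = q + 1 := by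
    have := C.cardK
    linarith
  have h4z : (4 : ℤ) ≤ (Nat.card K : ℤ) := by exact_mod_cast h4
  have hq7 : 7 ≤ q := by omega
  have hq7z : (7 : ℤ) ≤ (q : ℤ) := by exact_mod_cast hq7
  have haf : ∀ y : G, ¬ ConjIn K y → SReal y →
      2 * (Nat.card (Subgroup.centralizer ({y} : Set G)) : ℤ) = ((q : ℤ) - 1) * X y := by
    intro y hy hs
    have := C.aform y hy
    rw [sr_aCount B hy hs] at this
    linarith
  suffices hX : X y0 = 1 by
    refine ⟨hX, ?_⟩
    have := haf y0 hy0 hs0
    rw [hX] at this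
    omega
  obtain ⟨g, hty⟩ := sr_conj_t B hs0
  rw [← C.Xcl g y0]
  set y := g * y0 * g⁻¹ with hydef
  have hy : ¬ ConjIn K y := fun h => hy0 ((conjIn_conj_iff g y0).1 h)
  have hs : SReal y := ⟨t, B.ot, hty⟩
  have h2a := haf y hy hs
  have hdvd := C.dvd (Subgroup.centralizer ({y} : Set G)) (X y)
    (sr_X_const B C (by omega) hy hs)
  have key := sr_key B C (by omega) hy hty
  have hEK : Nat.card (Subgroup.normalizer
      ((Subgroup.centralizer ({y} : Set G) : Subgroup G) : Set G) ⊓ K : Subgroup G)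
      ≤ Nat.card K := Subgroup.card_le_of_le inf_le_right
  have hEKz : (Nat.card (Subgroup.normalizer
      ((Subgroup.centralizer ({y} : Set G) : Subgroup G) : Set G) ⊓ K : Subgroup G) : ℤ)
      ≤ (Nat.card K : ℤ) := by exact_mod_cast hEK
  have hA1 : 1 ≤ Nat.card (Subgroup.centralizer ({y} : Set G)) := Nat.card_pos
  have hA1z : (1 : ℤ) ≤ (Nat.card (Subgroup.centralizer ({y} : Set G)) : ℤ) := by
    exact_mod_cast hA1
  generalize (Nat.card (Subgroup.normalizer
      ((Subgroup.centralizer ({y} : Set G) : Subgroup G) : Set G) ⊓ K : Subgroup G) : ℤ) = e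
      at key hEKz
  generalize (Nat.card (Subgroup.centralizer ({y} : Set G)) : ℤ) = a at key h2a hdvd hA1z
  generalize (Nat.card K : ℤ) = m at hK h4z hEKz
  generalize X y = x at key h2a hdvd
  generalize (q : ℤ) = Q at *
  -- pure arithmetic
  have hQ : Q = 2 * m - 1 := by linarith
  have ha : a = (m - 1) * x := by
    have : 2 * a = 2 * ((m - 1) * x) := by rw [h2a, hQ]; ring
    linarith
  have hx1 : 1 ≤ x := by
    by_contra h
    have : x ≤ 0 := by omega
    nlinarith
  rcases lt_trichotomy x Q with h | h | h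
  · have h1 : a ≤ Q - x := Int.le_of_dvd (by linarith) hdvd
    by_contra hne
    have hx2 : 2 ≤ x := by omega
    nlinarith
  · exfalso
    rw [h] at key ha
    have h1 : (36 : ℤ) ≤ (Q + -1) ^ 2 := by nlinarith
    have ha2 : 2 ≤ a := by nlinarith
    have h2 : Q * (a - 1) * 36 ≤ Q * (a - 1) * (Q + -1) ^ 2 := by
      apply mul_le_mul_of_nonneg_left h1
      apply mul_nonneg <;> linarith
    have h3 : 2 * a * e ≤ 2 * a * m := by
      apply mul_le_mul_of_nonneg_left hEKz
      linarith
    have h4' : 2 * a * m = a * (Q + 1) := by rw [← hK]; ring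
    nlinarith [mul_nonneg (show (0 : ℤ) ≤ Q by linarith) (show (0 : ℤ) ≤ a - 2 by linarith),
      mul_nonneg (show (0 : ℤ) ≤ Q - 7 by linarith) (show (0 : ℤ) ≤ a by linarith)]
  · exfalso
    have hdvd' : a ∣ x - Q := by
      have := (dvd_neg (a := a) (b := Q - x)).2 hdvd
      have e : -(Q - x) = x - Q := by ring
      rwa [e] at this
    have h1 : a ≤ x - Q := Int.le_of_dvd (by linarith) hdvd'
    nlinarith

end Cfsg.Agent.Lib.Helper4.BSW
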