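import Mathlib
import Cfsg.Agent.Lib.Helper4.BSWKey
import Cfsg.Agent.Lib.Helper4.BSWCout

/-!
# BSW ladder, rung MBC: counting the elements that are neither conjugate into `K` nor strongly real
-/

set_option autoImplicit false

namespace Cfsg.Agent.Lib.Helper4.BSW

open Cfsg.Agent.Lib.Helper73.BSW Cfsg.Agent.Lib.Helper91.BSW

variable {G : Type*} [Group G] [Fintype G] {K H : Subgroup G} {t : G} {q : ℕ} {X : G → ℤ}

theorem stB (B : Cfg K H t) (C : CharOut K q (-1) X) (h4 : 4 ≤ Nat.card K) (hA : StA K q X) :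
    StB K q := by
  classical
  have hK : 2 * (Nat.card K : ℤ) = q + 1 := by
    have := C.cardK
    linarith
  have hq7 : 7 ≤ q := by omega
  have hq7z : (7 : ℤ) ≤ (q : ℤ) := by exact_mod_cast hq7
  have h1 : ∀ y : G, (if ConjIn K y then 0 else (X y + -1) ^ 2)
      = (if InU K y then (1 : ℤ) else 0) := by
    intro y
    by_cases hy : ConjIn K y
    · rw [if_pos hy, if_neg (fun h : InU K y => h.1 hy)]
    · by_cases hs : SReal y
      · rw [if_neg hy, if_neg (fun h : InU K y => h.2 hs), (hA y hy hs).1]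
        norm_num
      · have hU : InU K y := ⟨hy, hs⟩
        rw [if_neg hy, if_pos hU]
        have h2 := C.aform y hy
        rw [sr_aCount_zero B hy hs] at h2
        have h3 : ((q : ℤ) - 1) * X y = 0 := by
          push_cast at h2
          linarith
        rcases mul_eq_zero.mp h3 with h | h
        · omega
        · rw [h]; norm_num
  have h2 := C.sumY
  simp_rw [h1] at h2
  rw [Finset.sum_boole] at h2
  have h3 : Nat.card {y : G // InU K y} = (Finset.univ.filter (fun y : G => InU K y)).card := by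
    rw [Nat.card_eq_fintype_card]
    apply Fintype.card_of_subtype
    intro x
    simp
  unfold StB
  rw [h3]
  have h5 : 1 ≤ q ^ 2 := Nat.one_le_pow _ _ (by omega)
  zify [h5]
  exact h2

theorem stC (B : Cfg K H t) (C : CharOut K q (-1) X) (h4 : 4 ≤ Nat.card K) (hB : StB K q) :
    StC K t := by
  classical
  have hK : 2 * (Nat.card K : ℤ) = q + 1 := by
    have := C.cardK
    linarith
  have h4z : (4 : ℤ) ≤ (Nat.card K : ℤ) := by exact_mod_cast h4
  have hq7 : 7 ≤ q := by omega
  suffices hex : ∃ y : G, ¬ ConjIn K y ∧ SReal y by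
    obtain ⟨y, hy, hs⟩ := hex
    obtain ⟨g, hg⟩ := sr_conj_t B hs
    exact ⟨g * y * g⁻¹, fun h => hy ((conjIn_conj_iff g y).1 h), hg⟩
  by_contra hcon
  push Not at hcon
  -- the partition of `G`
  have h1 : ∀ y : G, (1 : ℤ) = (if y = 1 then 1 else 0)
      + (if (y ≠ 1 ∧ ConjIn K y) then 1 else 0) + (if InU K y then 1 else 0) := by
    intro y
    by_cases hy1 : y = 1
    · subst hy1
      have : ¬ InU K (1 : G) := fun h => h.1 conjIn_one
      simp [this]
    · by_cases hy : ConjIn K y
      · rw [if_neg hy1, if_pos ⟨hy1, hy⟩, if_neg (fun h : InU K y => h.1 hy)]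
        norm_num
      · have hU : InU K y := ⟨hy, hcon y hy⟩
        rw [if_neg hy1, if_neg (fun h => hy h.2), if_pos hU]
        norm_num
  have h2 : (Nat.card G : ℤ) = 1 + (Nat.card {z : G // z ≠ 1 ∧ ConjIn K z} : ℤ)
      + (Nat.card {y : G // InU K y} : ℤ) := by
    have e0 : (Nat.card G : ℤ) = ∑ _y : G, (1 : ℤ) := by
      simp [Nat.card_eq_fintype_card]
    rw [e0, Finset.sum_congr rfl (fun y _ => h1 y), Finset.sum_add_distrib,
      Finset.sum_add_distrib, Finset.sum_ite_eq' Finset.univ (1 : G), if_pos (Finset.mem_univ _),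
      Finset.sum_boole, Finset.sum_boole, Nat.card_eq_fintype_card, Nat.card_eq_fintype_card]
    congr 2
    · congr 1
      symm
      apply Fintype.card_of_subtype
      intro x
      simp
    · symm
      apply Fintype.card_of_subtype
      intro x
      simp
  have h3 := card_conj_union K (fun a ha ha1 g hg => by
    rw [cfg_normalizer B]; exact B.ti a ha ha1 g hg)
  rw [cfg_normalizer B, cfg_card_H B] at h3
  have h3z : (Nat.card {z : G // z ≠ 1 ∧ ConjIn K z} : ℤ) * (2 * (Nat.card K : ℤ))
      = (Nat.card G : ℤ) * ((Nat.card K : ℤ) - 1) := by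
    have := congrArg (fun n : ℕ => (n : ℤ)) h3
    push_cast [show 1 ≤ Nat.card K by omega] at this
    exact this
  have hBz : (Nat.card {y : G // InU K y} : ℤ) = (q : ℤ) ^ 2 - 1 := by
    have h5 : 1 ≤ q ^ 2 := Nat.one_le_pow _ _ (by omega)
    have : Nat.card {y : G // InU K y} = q ^ 2 - 1 := hB
    rw [this]
    push_cast [h5]
    ring
  have hG := C.cardG
  rw [hBz] at h2
  generalize (Nat.card {z : G // z ≠ 1 ∧ ConjIn K z} : ℤ) = c at h2 h3z
  generalize (Nat.card G : ℤ) = N at h2 h3z hG
  generalize (Nat.card K : ℤ) = m at hK h4z h3z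
  generalize (q : ℤ) = Q at *
  have hQ : Q = 2 * m - 1 := by linarith
  subst hQ
  have hN : N = 2 * m * (2 * m - 1) * (m - 1) := by
    have : 2 * N = 2 * (2 * m * (2 * m - 1) * (m - 1)) := by rw [hG]; ring
    linarith
  have hc : c = (2 * m - 1) * (m - 1) ^ 2 := by
    have h2m : (2 * m) ≠ 0 := by linarith
    apply mul_right_cancel₀ h2m
    rw [h3z, hN]; ring
  rw [hN, hc] at h2
  have h6 : (2 * m - 1) * (m * (m - 2)) = 0 := by linear_combination h2
  have h7 : 0 < (2 * m - 1) * (m * (m - 2)) := by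
    apply mul_pos (by linarith)
    apply mul_pos <;> linarith
  linarith

end Cfsg.Agent.Lib.Helper4.BSW
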