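import Mathlib

set_option autoImplicit false

namespace Cfsg.Agent.Lib.Helper4.BGZ

open Subgroup

universe u
variable {G : Type u} [Group G]

/-- the number of conjugates of a `TI`-like subset `zo` of `Z` -/
theorem card_conj_zo [Fintype G] [DecidableEq G] (Z : Subgroup G) (zo : Finset G)
    (hZo : ∀ z ∈ zo, z ∈ Z)
    (hTI : ∀ z ∈ zo, ∀ g : G, g * z * g⁻¹ ∈ Z → g ∈ Z)
    (hinv : ∀ z ∈ zo, ∀ g ∈ Z, g * z * g⁻¹ ∈ zo) :
    (Finset.univ.filter (fun y : G => ∃ z ∈ zo, ∃ g : G, y = g * z * g⁻¹)).card * Nat.card Z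
      = Nat.card G * zo.card := by
  classical
  have h1 : ∑ y : G, (Finset.univ.filter (fun g : G => g⁻¹ * y * g ∈ zo)).card =
      ∑ g : G, (Finset.univ.filter (fun y : G => g⁻¹ * y * g ∈ zo)).card := by
    simp only [Finset.card_filter]
    exact Finset.sum_comm
  have h2 : ∀ g : G, (Finset.univ.filter (fun y : G => g⁻¹ * y * g ∈ zo)).card = zo.card := by
    intro g
    apply Finset.card_bijective (fun y => g⁻¹ * y * g)
    · constructor
      · intro a b hab
        simpa using hab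
      · intro b
        exact ⟨g * b * g⁻¹, by group⟩
    · intro y
      simp
  have h3 : ∀ y : G, (Finset.univ.filter (fun g : G => g⁻¹ * y * g ∈ zo)).card =
      if (∃ z ∈ zo, ∃ g : G, y = g * z * g⁻¹) then Nat.card Z else 0 := by
    intro y
    split_ifs with hy
    · obtain ⟨z₀, hz₀, g₀, rfl⟩ := hy
      rw [Nat.card_eq_fintype_card, ← Fintype.card_coe, ← Nat.card_eq_fintype_card,
        ← Nat.card_eq_fintype_card]
      apply Nat.card_congr
      refine ⟨fun g => ⟨(g : G)⁻¹ * g₀, ?_⟩, fun h => ⟨g₀ * (h : G)⁻¹, ?_⟩, ?_, ?_⟩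
      · have hg := (Finset.mem_filter.mp g.2).2
        apply hTI z₀ hz₀
        have e : (g : G)⁻¹ * g₀ * z₀ * ((g : G)⁻¹ * g₀)⁻¹ = (g : G)⁻¹ * (g₀ * z₀ * g₀⁻¹) * g := by
          group
        rw [e]
        exact hZo _ hg
      · rw [Finset.mem_filter]
        refine ⟨Finset.mem_univ _, ?_⟩
        have e : (g₀ * (h : G)⁻¹)⁻¹ * (g₀ * z₀ * g₀⁻¹) * (g₀ * (h : G)⁻¹) = h * z₀ * (h : G)⁻¹ := by
          group
        rw [e]
        exact hinv z₀ hz₀ h h.2
      · intro g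
        apply Subtype.ext
        simp
      · intro h
        apply Subtype.ext
        simp
    · rw [Finset.card_eq_zero, Finset.filter_eq_empty_iff]
      intro g _ hg
      exact hy ⟨_, hg, g, by group⟩
  simp only [h2, h3] at h1
  rw [Finset.sum_const, Finset.card_univ, smul_eq_mul, ← Finset.sum_filter, Finset.sum_const,
    smul_eq_mul] at h1
  rw [h1, Nat.card_eq_fintype_card]

theorem count_contra [Finite G] (Z : Subgroup G) (Zo : Set G) (F : Finset (Subgroup G))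
    (T : Subgroup G → Set G) (S : Subgroup G → Subgroup G)
    (hZo : Zo ⊆ (Z : Set G))
    (hTI : ∀ z ∈ Zo, ∀ g : G, g * z * g⁻¹ ∈ Z → g ∈ Z)
    (hinv : ∀ z ∈ Zo, ∀ g ∈ Z, g * z * g⁻¹ ∈ Zo)
    (h1Zo : (1 : G) ∉ Zo)
    (hpart : Nat.card Z = 1 + Zo.ncard + ∑ L ∈ F, (Nat.card ↥(S L ⊓ Z) - 1))
    (hT1 : ∀ L ∈ F, (1 : G) ∉ T L)
    (hTcard : ∀ L ∈ F, (T L).ncard = (Nat.card (S L) - 1) * L.index)
    (hdisj : ∀ L ∈ F, ∀ L' ∈ F, L ≠ L' → Disjoint (T L) (T L'))
    (hdisjZ : ∀ L ∈ F, ∀ z ∈ Zo, ∀ y : G, y * z * y⁻¹ ∉ T L)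
    (hcard : ∀ L ∈ F, Nat.card L * Nat.card ↥(S L ⊓ Z) = Nat.card (S L) * Nat.card Z)
    (h3 : ∀ L ∈ F, 3 * Nat.card ↥(S L ⊓ Z) ≤ Nat.card (S L))
    (h2 : 2 ≤ F.card) : False := by
  classical
  have : Fintype G := Fintype.ofFinite G
  set zo : Finset G := Zo.toFinset with hzo
  have hmzo : ∀ x, x ∈ zo ↔ x ∈ Zo := fun x => Set.mem_toFinset
  have hzoc : Zo.ncard = zo.card := Set.ncard_eq_toFinset_card' Zo
  set c : Finset G := Finset.univ.filter (fun y : G => ∃ z ∈ zo, ∃ g : G, y = g * z * g⁻¹) with hc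
  have hcc : c.card * Nat.card Z = Nat.card G * zo.card :=
    card_conj_zo Z zo (fun z hz => hZo ((hmzo z).mp hz))
      (fun z hz => hTI z ((hmzo z).mp hz))
      (fun z hz g hg => (hmzo _).mpr (hinv z ((hmzo z).mp hz) g hg))
  let t : Subgroup G → Finset G := fun L => (T L).toFinset
  have hmt : ∀ L x, x ∈ t L ↔ x ∈ T L := fun L x => Set.mem_toFinset
  have htc : ∀ L, (T L).ncard = (t L).card := fun L => Set.ncard_eq_toFinset_card' (T L)
  have hz0 : 0 < Nat.card Z := Nat.card_pos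
  set m := Z.index with hm
  have hmz : m * Nat.card Z = Nat.card G := Z.index_mul_card
  have hcm : c.card = m * zo.card := by
    apply Nat.eq_of_mul_eq_mul_right hz0
    rw [hcc, ← hmz]
    ring
  -- the disjoint union
  have hU : (F.biUnion t).card = ∑ L ∈ F, (t L).card := by
    apply Finset.card_biUnion
    intro L hL L' hL' hne
    change Disjoint (t L) (t L')
    rw [Finset.disjoint_left]
    intro x hx hx'
    exact Set.disjoint_left.mp (hdisj L hL L' hL' hne) ((hmt L x).mp hx) ((hmt L' x).mp hx')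
  have hd1 : Disjoint c (F.biUnion t) := by
    rw [Finset.disjoint_left]
    intro x hx hx'
    obtain ⟨z, hz, g, rfl⟩ := (Finset.mem_filter.mp hx).2
    obtain ⟨L, hL, hxL⟩ := Finset.mem_biUnion.mp hx'
    exact hdisjZ L hL z ((hmzo z).mp hz) g ((hmt L _).mp hxL)
  have hd2 : (1 : G) ∉ c ∪ F.biUnion t := by
    intro h
    rcases Finset.mem_union.mp h with h | h
    · obtain ⟨z, hz, g, hg⟩ := (Finset.mem_filter.mp h).2
      apply h1Zo
      have : z = 1 := by
        have e : z = g⁻¹ * (g * z * g⁻¹) * g := by group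
        rw [e, ← hg]
        group
      rw [← this]
      exact (hmzo z).mp hz
    · obtain ⟨L, hL, hxL⟩ := Finset.mem_biUnion.mp h
      exact hT1 L hL ((hmt L _).mp hxL)
  have htot : 1 + m * zo.card + ∑ L ∈ F, (t L).card ≤ Nat.card G := by
    have h := Finset.card_le_univ (insert (1 : G) (c ∪ F.biUnion t))
    rw [Finset.card_insert_of_notMem hd2, Finset.card_union_of_disjoint hd1, hU, hcm,
      ← Nat.card_eq_fintype_card] at h
    omega
  -- arithmetic for each `L`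
  have ha0 : ∀ L, 0 < Nat.card ↥(S L ⊓ Z) := fun L => Nat.card_pos
  have hs0 : ∀ L, 0 < Nat.card (S L) := fun L => Nat.card_pos
  have f1 : ∀ L ∈ F, L.index * Nat.card (S L) = m * Nat.card ↥(S L ⊓ Z) := by
    intro L hL
    apply Nat.eq_of_mul_eq_mul_right hz0
    have e1 : L.index * Nat.card L = Nat.card G := L.index_mul_card
    calc L.index * Nat.card (S L) * Nat.card Z = L.index * (Nat.card (S L) * Nat.card Z) := by ring
      _ = L.index * (Nat.card L * Nat.card ↥(S L ⊓ Z)) := by rw [hcard L hL]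
      _ = (L.index * Nat.card L) * Nat.card ↥(S L ⊓ Z) := by ring
      _ = (m * Nat.card Z) * Nat.card ↥(S L ⊓ Z) := by rw [e1, hmz]
      _ = m * Nat.card ↥(S L ⊓ Z) * Nat.card Z := by ring
  have f2 : ∀ L ∈ F, 3 * L.index ≤ m := by
    intro L hL
    apply Nat.le_of_mul_le_mul_right _ (ha0 L)
    calc 3 * L.index * Nat.card ↥(S L ⊓ Z) = L.index * (3 * Nat.card ↥(S L ⊓ Z)) := by ring
      _ ≤ L.index * Nat.card (S L) := Nat.mul_le_mul_left _ (h3 L hL)
      _ = m * Nat.card ↥(S L ⊓ Z) := f1 L hL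
  have f3 : ∀ L ∈ F, (t L).card + L.index = m * Nat.card ↥(S L ⊓ Z) := by
    intro L hL
    rw [← htc, hTcard L hL, ← f1 L hL]
    obtain ⟨s, hs⟩ : ∃ s, Nat.card (S L) = s + 1 := ⟨Nat.card (S L) - 1, by have := hs0 L; omega⟩
    rw [hs]
    simp only [Nat.add_sub_cancel]
    ring
  have g1 : ∑ L ∈ F, (Nat.card ↥(S L ⊓ Z) - 1) + F.card = ∑ L ∈ F, Nat.card ↥(S L ⊓ Z) := by
    rw [Finset.card_eq_sum_ones, ← Finset.sum_add_distrib]
    refine Finset.sum_congr rfl (fun L _ => ?_)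
    have := ha0 L
    omega
  have g2 : ∑ L ∈ F, (t L).card + ∑ L ∈ F, L.index = m * ∑ L ∈ F, Nat.card ↥(S L ⊓ Z) := by
    rw [← Finset.sum_add_distrib, Finset.mul_sum]
    exact Finset.sum_congr rfl f3
  have g3 : 3 * ∑ L ∈ F, L.index ≤ F.card * m := by
    rw [Finset.mul_sum, ← smul_eq_mul, ← Finset.sum_const]
    exact Finset.sum_le_sum f2
  rw [← hmz, hpart, hzoc] at htot
  generalize ∑ L ∈ F, (Nat.card ↥(S L ⊓ Z) - 1) = A' at *
  generalize ∑ L ∈ F, Nat.card ↥(S L ⊓ Z) = A at *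
  generalize ∑ L ∈ F, (t L).card = TT at *
  generalize ∑ L ∈ F, L.index = I at *
  generalize F.card = k at *
  generalize zo.card = zc at *
  subst g1
  have hk : 2 * m ≤ k * m := Nat.mul_le_mul_right m h2
  nlinarith

end Cfsg.Agent.Lib.Helper4.BGZ
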