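import Cfsg.Agent.Lib.Helper24.BG14F
import Cfsg.Agent.Lib.Helper27.BG14a
import Cfsg.Agent.Lib.Helper28.BG16c
import Cfsg.Agent.S1446

set_option autoImplicit false

namespace Cfsg.Agent.Lib.Helper4.BGZ

open Subgroup Cfsg.Agent.Lib.Helper30 Cfsg.Agent.Lib.Helper28.BG12 Cfsg.Agent.Lib.Helper24.BG14

universe u
variable {G : Type u} [Group G]

theorem one_not_mem_tilde [Finite G] (hG : Cfsg.IsMinSimpleOddOrder G) (T : Texts G)
    {M : Subgroup G} (hM : IsCoatom M) :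
    (1 : G) ∉ Cfsg.tildeOf M ((Cfsg.sigmaCore M : Set G) \ {1}) := by
  rintro ⟨a, ⟨ha, ha1⟩, r, hr, y, hy⟩
  have ha1' : a ≠ 1 := ha1
  obtain ⟨-, hcop⟩ := supportR_facts hG T hM ha ha1' hr
  have har : a * r = 1 := by
    calc a * r = y⁻¹ * (y * (a * r) * y⁻¹) * y := by group
      _ = 1 := by rw [← hy]; group
  have hr' : r = a⁻¹ := eq_inv_of_mul_eq_one_right har
  rw [hr', orderOf_inv] at hcop
  have h1 : orderOf a ∣ Nat.card (Cfsg.sigmaCore M) := orderOf_dvd_card_of_mem ha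
  have h2 : orderOf a = 1 := Nat.eq_one_of_dvd_coprimes hcop h1 dvd_rfl
  exact ha1' (orderOf_eq_one_iff.mp h2)

theorem tilde_disjoint [Finite G] (hG : Cfsg.IsMinSimpleOddOrder G) (T : Texts G)
    {M N : Subgroup G} (hM : IsCoatom M) (hN : IsCoatom N) (hnc : ∀ g : G, N ≠ cj g M) :
    Disjoint (Cfsg.tildeOf M ((Cfsg.sigmaCore M : Set G) \ {1}))
      (Cfsg.tildeOf N ((Cfsg.sigmaCore N : Set G) \ {1})) := by
  rw [Set.disjoint_left, tildeOf_eq hG T hM, tildeOf_eq hG T hN]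
  rintro t ⟨y, x, hx, hx1, r, hr, rfl⟩ ⟨y', x', hx', hx1', r', hr', heq⟩
  rw [← sigmaCore_cj hG hM] at hx
  rw [← sigmaCore_cj hG hN] at hx'
  have hMy := Cfsg.Agent.Lib.Helper24.BG14.isCoatom_cj hM y
  have hNy := Cfsg.Agent.Lib.Helper24.BG14.isCoatom_cj hN y'
  have hxx : x = x' := by
    by_contra hne
    exact S1433_of hG T _ _ hMy hNy x x' hx hx' hx1 hx1' hne r hr r' hr' heq
  subst hxx
  have hnc' : ∀ g : G, cj y' N ≠ cj g (cj y M) := by
    intro g hg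
    apply hnc (y'⁻¹ * (g * y))
    rw [cj_mul, cj_mul, ← hg, cj_inv_cj]
  have hcop := coprime_card_sigmaCore hG T.h78 hMy hNy hnc'
  have h1 : orderOf x ∣ Nat.card (Cfsg.sigmaCore (cj y M)) := orderOf_dvd_card_of_mem hx
  have h2 : orderOf x ∣ Nat.card (Cfsg.sigmaCore (cj y' N)) := orderOf_dvd_card_of_mem hx'
  have h3 : orderOf x = 1 := Nat.eq_one_of_dvd_coprimes hcop h1 h2
  exact hx1 (orderOf_eq_one_iff.mp h3)

end Cfsg.Agent.Lib.Helper4.BGZ
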