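import Mathlib
import Cfsg.Prelude.Def_Characters
import Cfsg.Agent.Lib.Helper4.CharDecomp
import Cfsg.Agent.Lib.Helper4.Elementary
import Cfsg.Agent.Lib.Helper4.IndSpan
import Cfsg.Agent.Lib.Helper5.Clifford
import Cfsg.Agent.Lib.Helper19.LinChar
import Cfsg.Agent.S0854
import Cfsg.Agent.S0873
import Cfsg.Agent.S0138
import Cfsg.Agent.S0146

set_option autoImplicit false

namespace Cfsg.Agent.Lib.Helper4

open Cfsg.Agent.Lib.Helper19 Cfsg.Agent.Lib.Helper5
open scoped ComplexConjugate

universe u

section fixed

variable {G : Type*} [Group G] [Fintype G] {V : Type*} [AddCommGroup V] [Module ℂ V]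
  [FiniteDimensional ℂ V]

theorem classInner_char_one_eq_finrank (ρ : Representation ℂ G V) :
    classInner ρ.character (fun _ => 1) = Module.finrank ℂ (Representation.invariants ρ) := by
  have : Invertible (Nat.card G : ℂ) := invertibleOfNonzero card_ne_zero'
  rw [← Representation.card_inv_mul_sum_char_eq_finrank]
  simp [classInner]

theorem exists_fixed_of_classInner_ne_zero (ρ : Representation ℂ G V)
    (h : classInner ρ.character (fun _ => 1) ≠ 0) : ∃ v : V, v ≠ 0 ∧ ∀ g, ρ g v = v := by
  rw [classInner_char_one_eq_finrank] at h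
  have h1 : Module.finrank ℂ (Representation.invariants ρ) ≠ 0 := by exact_mod_cast h
  have h2 : Representation.invariants ρ ≠ ⊥ := by
    intro h3
    rw [h3] at h1
    simp at h1
  obtain ⟨v, hv, hv0⟩ := Submodule.exists_mem_ne_zero_of_ne_bot h2
  exact ⟨v, hv0, (Representation.mem_invariants ρ v).mp hv⟩

theorem classInner_ne_zero_of_fixed (ρ : Representation ℂ G V) (v : V) (hv : v ≠ 0)
    (hfix : ∀ g, ρ g v = v) : classInner ρ.character (fun _ => 1) ≠ 0 := by
  rw [classInner_char_one_eq_finrank]
  have h2 : Representation.invariants ρ ≠ ⊥ := by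
    intro h3
    have : v ∈ Representation.invariants ρ := (Representation.mem_invariants ρ v).mpr hfix
    rw [h3] at this
    exact hv (by simpa using this)
  have h1 : Module.finrank ℂ (Representation.invariants ρ) ≠ 0 := by
    intro h3
    exact h2 (Submodule.finrank_eq_zero.mp h3)
  exact_mod_cast h1

theorem exists_irr_constituent {χ : G → ℂ} (h : IsCharacter G χ) (h0 : χ ≠ 0) :
    ∃ ψ : G → ℂ, IsIrrCharacter G ψ ∧ classInner χ ψ ≠ 0 := by
  classical
  have := finite_irrCharacter (G := G)
  have := Fintype.ofFinite (IrrCharacter G)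
  by_contra hcon
  push Not at hcon
  apply h0
  rw [char_eq_sum_irr h]
  apply Finset.sum_eq_zero
  intro ψ _
  rw [hcon ψ ψ.2, zero_smul]

omit [Fintype G] in
theorem irr_apply_one_of_comm [IsMulCommutative G] {χ : G → ℂ} (h : IsIrrCharacter G χ) :
    χ 1 = 1 := by
  obtain ⟨n, ρ, hirr, rfl⟩ := h
  rw [Representation.char_one, Representation.IsIrreducible.finrank_eq_one_of_isMulCommutative ρ]
  simp

theorem norm_linear_eq_one {χ : G → ℂ} (h : IsCharacter G χ ∧ χ 1 = 1) (g : G) : ‖χ g‖ = 1 := by
  obtain ⟨f, rfl⟩ := exists_hom_of_linear χ h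
  rw [homFun_apply]
  have h1 : ((f g : ℂˣ) : ℂ) ^ (Fintype.card G) = 1 := by
    rw [← Units.val_pow_eq_pow_val, ← map_pow, pow_card_eq_one, map_one, Units.val_one]
  exact Complex.norm_eq_one_of_pow_eq_one h1 Fintype.card_ne_zero

end fixed

section key

variable {H : Type u} [Group H]

/-- the inertia subgroup of a function on a normal subgroup -/
def inertia {N : Subgroup H} (hN : N.Normal) (θ : N → ℂ) : Subgroup H where
  carrier := {g | cjF hN θ g = θ}
  one_mem' := cjF_one hN θ
  mul_mem' := by
    intro a b ha hb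
    have ha' : cjF hN θ a = θ := ha
    have hb' : cjF hN θ b = θ := hb
    change cjF hN θ (a * b) = θ
    rw [← cjF_cjF, ha', hb']
  inv_mem' := by
    intro a ha
    have ha' : cjF hN θ a = θ := ha
    change cjF hN θ a⁻¹ = θ
    conv_lhs => rw [← ha']
    rw [cjF_cjF, mul_inv_cancel, cjF_one]

theorem mem_inertia {N : Subgroup H} (hN : N.Normal) (θ : N → ℂ) (g : H) :
    g ∈ inertia hN θ ↔ ∀ n : N, θ ⟨g * n * g⁻¹, hN.conj_mem (n : H) n.2 g⟩ = θ n := by
  change cjF hN θ g = θ ↔ _
  rw [funext_iff]
  rfl

theorem le_inertia {N : Subgroup H} (hN : N.Normal) {θ : N → ℂ} (hθ : IsClassFunction N θ) :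
    N ≤ inertia hN θ := by
  intro c hc
  rw [mem_inertia]
  intro n
  exact hθ n ⟨c, hc⟩

variable [Fintype H]

theorem exists_ind_of_quasi (p : ℕ) [Fact p.Prime] (C P E : Subgroup H) [hC : C.Normal]
    (hcyc : IsCyclic C) (hcop : Nat.Coprime (Nat.card C) p) (hP : IsPGroup p P)
    (hCP : C ⊔ P = ⊤) (hPE : P ≤ E) (hZE : C ⊓ Subgroup.centralizer (P : Set H) ≤ E)
    (χ : H → ℂ) (hχ : IsIrrCharacter H χ) (hne : χ ≠ fun _ => 1)
    (hcon : classInner (indFun E (fun _ => 1)) χ ≠ 0) :
    ∃ (T : Subgroup H) (ψ : T → ℂ), T ≠ ⊤ ∧ IsIrrCharacter T ψ ∧ indFun T ψ = χ := by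
  classical
  have hχc : IsCharacter H χ := isCharacter_of_irr hχ
  have hχcl : IsClassFunction H χ := isClassFunction_of_char hχc
  have hres : IsCharacter C (fun c : C => χ c) := isCharacter_restrict hχc C
  have hres0 : (fun c : C => χ c) ≠ 0 := by
    intro h
    have := congrFun h 1
    exact irr_apply_one_ne_zero hχ this
  obtain ⟨lam, hlam, hlamc⟩ := exists_irr_constituent hres hres0
  by_cases hT : inertia hC lam = ⊤
  · exfalso
    have hinv : ∀ (g : H) (c : C),
        lam ⟨g * c * g⁻¹, hC.conj_mem (c : H) c.2 g⟩ = lam c := by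
      intro g c
      have : g ∈ inertia hC lam := by rw [hT]; trivial
      exact (mem_inertia hC lam g).mp this c
    have hcomm : IsMulCommutative C := IsCyclic.isMulCommutative
    have hlam1 : lam 1 = 1 := irr_apply_one_of_comm hlam
    have hlamlin : IsCharacter C lam ∧ lam 1 = 1 := ⟨isCharacter_of_irr hlam, hlam1⟩
    have hcl : (fun c : C => χ c) = classInner (fun c : C => χ c) lam • lam := by
      have := finite_irrCharacter (G := C)
      have := Fintype.ofFinite (IrrCharacter C)
      conv_lhs => rw [char_eq_sum_irr hres]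
      rw [Finset.sum_eq_single ⟨lam, hlam⟩]
      · intro φ _ hφ
        rw [clifford_inner_zero hC hχ hlam hlamc φ.2 ?_, zero_smul]
        intro g hg
        apply hφ
        apply Subtype.ext
        rw [hg]
        funext c
        exact hinv g c
      · intro h
        exact absurd (Finset.mem_univ _) h
    have hχ1 : χ 1 = classInner (fun c : C => χ c) lam := by
      have := congrFun hcl 1
      simpa [hlam1] using this
    obtain ⟨n, ρ, hirr, hρ⟩ := id hχ
    have hn : classInner (fun c : C => χ c) lam = n := by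
      rw [← hχ1, ← hρ, Representation.char_one]
      simp
    have hn0 : (n : ℂ) ≠ 0 := by
      rw [← hn]
      exact hlamc
    have hscal : ∀ c : C, ρ (c : H) = lam c • LinearMap.id := by
      intro c
      have h3 : ρ.character (c : H) = n * lam c := by
        rw [hρ, ← hn]
        exact congrFun hcl c
      have h1 : ‖ρ.character (c : H)‖ = (Module.finrank ℂ (Fin n → ℂ) : ℝ) := by
        rw [h3, norm_mul, norm_linear_eq_one hlamlin, mul_one]
        simp
      obtain ⟨ω, hω⟩ := (Cfsg.Agent.S0138.result ρ (c : H)).mp h1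
      have h2 : ρ.character (c : H) = ω * n := by
        change LinearMap.trace ℂ _ (ρ (c : H)) = _
        rw [hω]
        simp
      have h4 : ω = lam c := by
        rw [h2] at h3
        apply mul_right_cancel₀ hn0
        rw [h3]
        ring
      rw [hω, h4]
    let ρE : Representation ℂ E (Fin n → ℂ) := ρ.comp E.subtype
    have hE : classInner ρE.character (fun _ => 1) ≠ 0 := by
      rw [Cfsg.Agent.S0146.result E (fun _ => 1) χ hχcl, ← classInner_conj_symm, ← hρ] at hcon
      intro h
      apply hcon
      rw [map_eq_zero]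
      exact h
    obtain ⟨v, hv0, hvfix⟩ := exists_fixed_of_classInner_ne_zero ρE hE
    have hker : ∀ c : C, (c : H) ∈ Subgroup.centralizer (P : Set H) → lam c = 1 := by
      intro c hc
      have hcE : (c : H) ∈ E := hZE ⟨c.2, hc⟩
      have h1 : ρ (c : H) v = v := hvfix ⟨c, hcE⟩
      rw [hscal c] at h1
      have h1' : lam c • v = v := h1
      have h2 : (lam c - 1) • v = 0 := by rw [sub_smul, one_smul, h1', sub_self]
      rcases smul_eq_zero.mp h2 with h3 | h3
      · exact sub_eq_zero.mp h3
      · exact absurd h3 hv0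
    have hlam_one : lam = fun _ => 1 :=
      Cfsg.Agent.S0873.result p C P hP hcop hCP lam hlamlin hinv hker
    let S : Subgroup H :=
      { carrier := {g | ρ g v = v}
        one_mem' := by simp
        mul_mem' := by
          intro a b ha hb
          have ha' : ρ a v = v := ha
          have hb' : ρ b v = v := hb
          change ρ (a * b) v = v
          rw [map_mul, Module.End.mul_apply, hb', ha']
        inv_mem' := by
          intro a ha
          have ha' : ρ a v = v := ha
          change ρ a⁻¹ v = v
          conv_lhs => rw [← ha']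
          rw [← Module.End.mul_apply, ← map_mul, inv_mul_cancel, map_one]
          rfl }
    have hS : S = ⊤ := by
      rw [eq_top_iff, ← hCP, sup_le_iff]
      constructor
      · intro c hc
        change ρ c v = v
        rw [hscal ⟨c, hc⟩, hlam_one]
        simp
      · intro x hx
        exact hvfix ⟨x, hPE hx⟩
    have hfix : ∀ g, ρ g v = v := fun g => by
      have : g ∈ S := by rw [hS]; trivial
      exact this
    have h5 := classInner_ne_zero_of_fixed ρ v hv0 hfix
    rw [hρ] at h5
    exact h5 (classInner_irr_ne hχ isIrrCharacter_one hne)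
  · obtain ⟨ψ, hψ, hind, -⟩ := Cfsg.Agent.S0854.result C lam hlam (inertia hC lam)
      (mem_inertia hC lam) (le_inertia hC (isClassFunction_of_char (isCharacter_of_irr hlam)))
      χ hχ hlamc
    exact ⟨_, ψ, hT, hψ, hind⟩

end key

end Cfsg.Agent.Lib.Helper4
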