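import Mathlib
import Cfsg.Prelude.Def_Characters
import Cfsg.Agent.Lib.Helper4.Brauer1
import Cfsg.Agent.Lib.Helper19.IndChar
import Cfsg.Agent.S0872

set_option autoImplicit false

namespace Cfsg.Agent.Lib.Helper4

open Cfsg.Agent.Lib.Helper19 Cfsg.Agent.Lib.Helper5
open scoped ComplexConjugate

universe u

theorem isElementary_sup_centralizer {H : Type u} [Group H] [Finite H] (p : ℕ) [Fact p.Prime]
    (C P : Subgroup H) (hcyc : IsCyclic C) (hcop : Nat.Coprime (Nat.card C) p)
    (hP : IsPGroup p P) :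
    IsElementary p ↥((C ⊓ Subgroup.centralizer (P : Set H)) ⊔ P) := by
  have hZcyc : IsCyclic ↥(C ⊓ Subgroup.centralizer (P : Set H)) :=
    Subgroup.isCyclic_of_le (inf_le_left : C ⊓ Subgroup.centralizer (P : Set H) ≤ C)
  obtain ⟨z, hz⟩ := (Subgroup.isCyclic_iff_exists_zpowers_eq_top _).mp hZcyc
  rw [← hz]
  have hzZ : z ∈ C ⊓ Subgroup.centralizer (P : Set H) := by
    rw [← hz]; exact Subgroup.mem_zpowers z
  have hzE : z ∈ Subgroup.zpowers z ⊔ P := (le_sup_left : _ ≤ Subgroup.zpowers z ⊔ P)
    (Subgroup.mem_zpowers z)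
  have hcent : Subgroup.zpowers z ⊔ P ≤ Subgroup.centralizer ({z} : Set H) := by
    rw [sup_le_iff]
    constructor
    · rw [Subgroup.zpowers_le, Subgroup.mem_centralizer_iff]
      intro y hy
      rw [Set.mem_singleton_iff] at hy
      rw [hy]
    · intro x hx
      rw [Subgroup.mem_centralizer_iff]
      intro y hy
      rw [Set.mem_singleton_iff] at hy
      rw [hy]
      exact ((Subgroup.mem_centralizer_iff.mp hzZ.2) x hx).symm
  apply isElementary_of_sup_eq_top (⟨z, hzE⟩ : ↥(Subgroup.zpowers z ⊔ P)) ?_ ?_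
    (P.subgroupOf (Subgroup.zpowers z ⊔ P)) ?_ ?_
  · rw [Subgroup.mem_center_iff]
    intro g
    apply Subtype.ext
    have := (Subgroup.mem_centralizer_iff.mp (hcent g.2)) z (Set.mem_singleton z)
    exact this.symm
  · have h1 : orderOf (⟨z, hzE⟩ : ↥(Subgroup.zpowers z ⊔ P)) = orderOf z :=
      Subgroup.orderOf_mk z hzE
    rw [h1]
    apply Nat.Coprime.coprime_dvd_left ?_ hcop
    rw [← Nat.card_zpowers, hz]
    exact Subgroup.card_dvd_of_le inf_le_left
  · exact hP.comap_subtype
  · have h1 : Subgroup.zpowers (⟨z, hzE⟩ : ↥(Subgroup.zpowers z ⊔ P)) =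
        (Subgroup.zpowers z).subgroupOf (Subgroup.zpowers z ⊔ P) := by
      apply Subgroup.map_injective (Subgroup.zpowers z ⊔ P).subtype_injective
      rw [MonoidHom.map_zpowers, Subgroup.subgroupOf_map_subtype, inf_eq_left.mpr le_sup_left]
      rfl
    rw [h1, ← Subgroup.subgroupOf_sup le_sup_left le_sup_right, Subgroup.subgroupOf_self]

theorem one_mem_indSpan_of_quasiElem (p : ℕ) [hp : Fact p.Prime] :
    ∀ (n : ℕ) (H : Type u) [Group H] [Fintype H], Nat.card H = n → QuasiElem p H →
      (fun _ => 1 : H → ℂ) ∈ indSpan (fun E : Subgroup H => IsElementary p E) := by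
  intro n
  induction n using Nat.strong_induction_on with
  | _ n ih =>
    intro H _ _ hn hq
    classical
    obtain ⟨C, hC, hcyc, hcop, k, hk⟩ := id hq
    let P : Sylow p H := default
    have hCP : C ⊔ (P : Subgroup H) = ⊤ := sup_sylow_eq_top C k hk P
    have hEel := isElementary_sup_centralizer p C (P : Subgroup H) hcyc hcop P.2
    have := finite_irrCharacter (G := H)
    have := Fintype.ofFinite (IrrCharacter H)
    have hπ : IsCharacter H (indFun ((C ⊓ Subgroup.centralizer ((P : Subgroup H) : Set H)) ⊔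
        (P : Subgroup H)) (fun _ => 1)) := isCharacter_indFun _ _ isCharacter_one
    obtain ⟨m, hm, hsum⟩ := char_eq_sum_nat_irr hπ
    have hm1 : (m ⟨fun _ => 1, isIrrCharacter_one⟩ : ℂ) = 1 := by
      rw [← hm]
      change classInner _ (fun _ => 1) = 1
      rw [Cfsg.Agent.S0146.result _ _ _ (isClassFunction_of_char isCharacter_one)]
      exact classInner_irr_self isIrrCharacter_one
    rw [← Finset.add_sum_erase _ _ (Finset.mem_univ (⟨fun _ => 1, isIrrCharacter_one⟩ :
      IrrCharacter H)), hm1, one_smul] at hsum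
    have h1 : (fun _ => 1 : H → ℂ) = indFun ((C ⊓ Subgroup.centralizer
        ((P : Subgroup H) : Set H)) ⊔ (P : Subgroup H)) (fun _ => 1) -
        ∑ ψ ∈ Finset.univ.erase (⟨fun _ => 1, isIrrCharacter_one⟩ : IrrCharacter H),
          (m ψ : ℂ) • (ψ : H → ℂ) := by
      rw [hsum]
      simp
    rw [h1]
    apply AddSubgroup.sub_mem
    · exact indFun_mem_indSpan hEel isCharacter_one
    · apply AddSubgroup.sum_mem
      intro ψ hψ
      rw [Nat.cast_smul_eq_nsmul]
      by_cases hmψ : m ψ = 0
      · rw [hmψ, zero_smul]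
        exact AddSubgroup.zero_mem _
      apply AddSubgroup.nsmul_mem
      have hψne : (ψ : H → ℂ) ≠ fun _ => 1 := by
        intro h
        exact (Finset.mem_erase.mp hψ).1 (Subtype.ext h)
      have hcon : classInner (indFun ((C ⊓ Subgroup.centralizer ((P : Subgroup H) : Set H)) ⊔
          (P : Subgroup H)) (fun _ => 1)) (ψ : H → ℂ) ≠ 0 := by
        rw [hm]
        exact_mod_cast hmψ
      obtain ⟨T, ψ', hT, hψ', hind⟩ := exists_ind_of_quasi p C (P : Subgroup H) _ hcyc hcop P.2
        hCP le_sup_right le_sup_left ψ ψ.2 hψne hcon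
      rw [← hind]
      have hcardT : Nat.card T < n := by
        rw [← hn]
        rcases lt_or_eq_of_le (Subgroup.card_le_card_group T) with h | h
        · exact h
        · exact absurd ((Subgroup.card_eq_iff_eq_top T).mp h) hT
      have hT1 := ih (Nat.card T) hcardT T rfl (quasiElem_subgroup hp.out hq T)
      have hT2 := indSpan_mul_char hT1 (isCharacter_of_irr hψ')
      have hT3 : (fun _ => 1 : T → ℂ) * ψ' = ψ' := by
        funext t
        simp
      rw [hT3] at hT2
      refine indFun_mem_indSpan_of_mem T ?_ hT2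
      intro E hE
      exact isElementary_of_mulEquiv (E.equivMapOfInjective T.subtype T.subtype_injective) hE

/-- local Brauer induction, span form -/
theorem exists_int_mem_indSpan {G : Type u} [Group G] [Fintype G] (p : ℕ) [hp : Fact p.Prime] :
    ∃ m : ℤ, ¬ (p : ℤ) ∣ m ∧
      (fun _ : G => (m : ℂ)) ∈ indSpan (fun E : Subgroup G => IsElementary p E) := by
  classical
  obtain ⟨m, a, hm, ha, hsum⟩ := Cfsg.Agent.S0872.result (G := G) p hp.out
  refine ⟨m, hm, ?_⟩
  rw [hsum]
  apply AddSubgroup.sum_mem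
  intro H _
  by_cases haH : a H = 0
  · rw [haH]
    simp only [Int.cast_zero, zero_smul]
    exact AddSubgroup.zero_mem _
  obtain ⟨C, hCH, hnorm, hcyc, hcop, k, hk⟩ := ha H haH
  have hq : QuasiElem p H := quasiElem_of_rel H C hCH hnorm hcyc hcop k hk
  rw [Int.cast_smul_eq_zsmul]
  apply AddSubgroup.zsmul_mem
  refine indFun_mem_indSpan_of_mem H ?_ (one_mem_indSpan_of_quasiElem p _ H rfl hq)
  intro E hE
  exact isElementary_of_mulEquiv (E.equivMapOfInjective H.subtype H.subtype_injective) hE

end Cfsg.Agent.Lib.Helper4
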