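import Mathlib
import Cfsg.Prelude.Def_Characters
import Cfsg.Agent.Lib.Helper4.Brauer2
import Cfsg.Agent.S0176

set_option autoImplicit false

namespace Cfsg.Agent.Lib.Helper4

open Cfsg.Agent.Lib.Helper19 Cfsg.Agent.Lib.Helper5
open scoped ComplexConjugate

universe u

variable {G : Type u} [Group G] [Fintype G]

/-- elementary for some prime -/
def IsElem (E : Subgroup G) : Prop := ∃ p : ℕ, p.Prime ∧ IsElementary p E

omit [Fintype G] in
theorem isElem_of_le [Finite G] {E B : Subgroup G} (hE : IsElem E) (hBE : B ≤ E) : IsElem B := by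
  obtain ⟨p, hp, hE⟩ := hE
  have : Fact p.Prime := ⟨hp⟩
  exact ⟨p, hp, isElementary_of_mulEquiv (Subgroup.subgroupOfEquivOfLe hBE)
    (isElementary_subgroup hE (B.subgroupOf E))⟩

/-- Brauer's induction theorem for the trivial character, span form -/
theorem one_mem_indSpan_isElem : (fun _ => 1 : G → ℂ) ∈ indSpan (IsElem (G := G)) := by
  let I : AddSubgroup ℤ :=
    { carrier := {m | (fun _ : G => (m : ℂ)) ∈ indSpan (IsElem (G := G))}
      zero_mem' := by
        change (fun _ : G => ((0 : ℤ) : ℂ)) ∈ indSpan (IsElem (G := G))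
        simp only [Int.cast_zero]
        exact AddSubgroup.zero_mem _
      add_mem' := by
        intro a b ha hb
        change (fun _ : G => ((a + b : ℤ) : ℂ)) ∈ indSpan (IsElem (G := G))
        have : (fun _ : G => ((a + b : ℤ) : ℂ)) = (fun _ : G => (a : ℂ)) + fun _ : G => (b : ℂ) := by
          funext g
          simp
        rw [this]
        exact AddSubgroup.add_mem _ ha hb
      neg_mem' := by
        intro a ha
        change (fun _ : G => ((-a : ℤ) : ℂ)) ∈ indSpan (IsElem (G := G))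
        have : (fun _ : G => ((-a : ℤ) : ℂ)) = - (fun _ : G => (a : ℂ)) := by
          funext g
          simp
        rw [this]
        exact AddSubgroup.neg_mem _ ha }
  obtain ⟨a, ha⟩ := Int.subgroup_cyclic I
  have hdvd : ∀ m ∈ I, a ∣ m := by
    intro m hm
    rw [ha, AddSubgroup.mem_closure_singleton] at hm
    obtain ⟨k, rfl⟩ := hm
    exact ⟨k, by rw [smul_eq_mul, mul_comm]⟩
  have ha1 : a.natAbs = 1 := by
    by_contra hne
    obtain ⟨p, hp, hpa⟩ := Nat.exists_prime_and_dvd hne
    have : Fact p.Prime := ⟨hp⟩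
    obtain ⟨m, hm, hmem⟩ := exists_int_mem_indSpan (G := G) p
    apply hm
    have hmI : m ∈ I := indSpan_mono (fun E hE => ⟨p, hp, hE⟩) hmem
    exact dvd_trans (Int.natCast_dvd.mpr hpa) (hdvd m hmI)
  have haI : a ∈ I := by
    rw [ha]
    exact AddSubgroup.subset_closure (Set.mem_singleton a)
  have h1 : (1 : ℤ) ∈ I := by
    rcases Int.natAbs_eq a with h | h
    · rw [ha1] at h
      rw [h] at haI
      exact haI
    · rw [ha1] at h
      rw [h] at haI
      have := I.neg_mem haI
      simpa using this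
  have h2 : (fun _ : G => ((1 : ℤ) : ℂ)) ∈ indSpan (IsElem (G := G)) := h1
  simpa using h2

theorem char_mem_indSpan_isElem {χ : G → ℂ} (hχ : IsCharacter G χ) :
    χ ∈ indSpan (IsElem (G := G)) := by
  have h := indSpan_mul_char one_mem_indSpan_isElem hχ
  have h3 : (fun _ => 1 : G → ℂ) * χ = χ := by
    funext t
    simp
  rwa [h3] at h

/-- the span of the functions induced from linear characters of subgroups in `F` -/
def indSpanLin (F : Subgroup G → Prop) : AddSubgroup (G → ℂ) :=
  AddSubgroup.closure {φ | ∃ (E : Subgroup G) (lam : E →* ℂˣ), F E ∧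
    φ = indFun E (fun e => (lam e : ℂ))}

theorem indSpan_le_indSpanLin {F : Subgroup G → Prop} (hnil : ∀ E, F E → Group.IsNilpotent E)
    (hsub : ∀ E B : Subgroup G, F E → B ≤ E → F B) : indSpan F ≤ indSpanLin F := by
  classical
  unfold indSpan
  rw [AddSubgroup.closure_le]
  rintro φ ⟨E, ψ, hE, hψ, rfl⟩
  have := finite_irrCharacter (G := E)
  have := Fintype.ofFinite (IrrCharacter E)
  obtain ⟨m, -, hsum⟩ := char_eq_sum_nat_irr hψ
  rw [hsum, indFun_sum]
  apply AddSubgroup.sum_mem
  intro θ _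
  rw [indFun_smul, Nat.cast_smul_eq_nsmul]
  apply AddSubgroup.nsmul_mem
  have := hnil E hE
  obtain ⟨B, lam, hlam⟩ := Cfsg.Agent.S0176.result (θ : E → ℂ) θ.2
  rw [hlam, indFun_indFun_map]
  apply AddSubgroup.subset_closure
  refine ⟨B.map E.subtype,
    lam.comp (B.equivMapOfInjective E.subtype E.subtype_injective).symm.toMonoidHom, ?_, rfl⟩
  apply hsub E _ hE
  rintro _ ⟨x, -, rfl⟩
  exact x.2

theorem neg_list_sum_lin (l : List ((E : Subgroup G) × ((E →* ℂˣ) × ℤ))) :
    -(l.map fun t => (t.2.2 : ℂ) • indFun t.1 (fun e => (t.2.1 e : ℂ))).sum =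
      ((l.map fun t => (⟨t.1, t.2.1, -t.2.2⟩ : (E : Subgroup G) × ((E →* ℂˣ) × ℤ))).map
        fun t => (t.2.2 : ℂ) • indFun t.1 (fun e => (t.2.1 e : ℂ))).sum := by
  induction l with
  | nil => simp
  | cons t l ih =>
    simp only [List.map_cons, List.sum_cons, neg_add, ih]
    congr 1
    simp

/-- list form of membership -/
theorem exists_list_of_mem_indSpanLin {F : Subgroup G → Prop} {f : G → ℂ}
    (hf : f ∈ indSpanLin F) :
    ∃ l : List ((E : Subgroup G) × ((E →* ℂˣ) × ℤ)), (∀ t ∈ l, F t.1) ∧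
      f = (l.map fun t => (t.2.2 : ℂ) • indFun t.1 (fun e => (t.2.1 e : ℂ))).sum := by
  induction hf using AddSubgroup.closure_induction with
  | mem φ hφ =>
    obtain ⟨E, ψ, hE, rfl⟩ := hφ
    refine ⟨[⟨E, ψ, 1⟩], ?_, ?_⟩
    · intro t ht
      rw [List.mem_singleton] at ht
      subst ht
      exact hE
    · simp
  | zero => exact ⟨[], by simp, by simp⟩
  | add a b _ _ ha hb =>
    obtain ⟨l₁, h₁, rfl⟩ := ha
    obtain ⟨l₂, h₂, rfl⟩ := hb
    refine ⟨l₁ ++ l₂, ?_, by simp⟩
    intro t ht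
    rcases List.mem_append.mp ht with h | h
    · exact h₁ t h
    · exact h₂ t h
  | neg a _ ha =>
    obtain ⟨l, h, rfl⟩ := ha
    refine ⟨l.map fun t => ⟨t.1, t.2.1, -t.2.2⟩, ?_, ?_⟩
    · intro t ht
      obtain ⟨s, hs, rfl⟩ := List.mem_map.mp ht
      exact h s hs
    · exact neg_list_sum_lin l

/-- Brauer's induction theorem, span form -/
theorem char_mem_indSpanLin_isElem {χ : G → ℂ} (hχ : IsCharacter G χ) :
    χ ∈ indSpanLin (IsElem (G := G)) := by
  refine indSpan_le_indSpanLin ?_ ?_ (char_mem_indSpan_isElem hχ)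
  · rintro E ⟨p, hp, hE⟩
    have : Fact p.Prime := ⟨hp⟩
    exact isNilpotent_of_isElementary hE
  · intro E B hE hBE
    exact isElem_of_le hE hBE

end Cfsg.Agent.Lib.Helper4
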