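import Mathlib
import Cfsg.Prelude.Def_Characters

set_option autoImplicit false

namespace Cfsg.Agent.Lib.Helper4

universe u

/-- an exponent selecting the `n`-part of elements of a group of order `m * n` -/
theorem exists_part_exponent {m n : ℕ} (h : m.Coprime n) : ∃ k : ℕ, m ∣ k ∧ k ≡ 1 [MOD n] := by
  obtain ⟨k, hk0, hk1⟩ := Nat.chineseRemainder h 0 1
  exact ⟨k, (Nat.modEq_zero_iff_dvd).mp hk0, hk1⟩

theorem pow_eq_one_of_orderOf_dvd {E : Type*} [Monoid E] {y : E} {m k : ℕ} (h : orderOf y ∣ m)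
    (hk : m ∣ k) : y ^ k = 1 := orderOf_dvd_iff_pow_eq_one.mp (dvd_trans h hk)

theorem pow_eq_self_of_orderOf_dvd {E : Type*} [Group E] {y : E} {n k : ℕ} (h : orderOf y ∣ n)
    (hk : k ≡ 1 [MOD n]) : y ^ k = y := by
  have h1 : y ^ k = y ^ 1 := pow_eq_pow_iff_modEq.mpr (hk.of_dvd h)
  rwa [pow_one] at h1

/-- in a nilpotent group of order dividing `m * n` taking `n`-parts is multiplicative -/
theorem mul_pow_of_isNilpotent {E : Type*} [Group E] [Finite E] [hnil : Group.IsNilpotent E]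
    {m n k : ℕ} (hcop : m.Coprime n) (hE : Nat.card E ∣ m * n) (hk0 : m ∣ k)
    (hk1 : k ≡ 1 [MOD n]) (a b : E) : (a * b) ^ k = a ^ k * b ^ k := by
  obtain ⟨e⟩ := (Group.isNilpotent_of_finite_tfae (G := E)).out 0 4 rfl rfl |>.mp hnil
  obtain ⟨f, rfl⟩ := e.surjective a
  obtain ⟨g, rfl⟩ := e.surjective b
  rw [← map_mul, ← map_pow, ← map_pow, ← map_pow, ← map_mul]
  congr 1
  funext p P
  change (f p P * g p P) ^ k = (f p P) ^ k * (g p P) ^ k
  have hp : (p : ℕ).Prime := Nat.prime_of_mem_primeFactors p.2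
  have : Fact (p : ℕ).Prime := ⟨hp⟩
  obtain ⟨j, hj⟩ := IsPGroup.iff_card.mp P.2
  have hdvd : Nat.card (P : Subgroup E) ∣ m * n := dvd_trans (Subgroup.card_subgroup_dvd_card _) hE
  by_cases hpm : (p : ℕ) ∣ m
  · have hpn : Nat.Coprime (Nat.card (P : Subgroup E)) n := by
      rw [hj]
      apply Nat.Coprime.pow_left
      rw [Nat.Prime.coprime_iff_not_dvd hp]
      intro hpn
      exact hp.one_lt.ne' (Nat.eq_one_of_dvd_coprimes hcop hpm hpn)
    have h1 : Nat.card (P : Subgroup E) ∣ m := hpn.dvd_of_dvd_mul_right hdvd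
    have h2 : ∀ y : (P : Subgroup E), y ^ k = 1 := fun y =>
      pow_eq_one_of_orderOf_dvd (dvd_trans (orderOf_dvd_natCard y) h1) hk0
    rw [h2, h2, h2, one_mul]
  · have hpm' : Nat.Coprime (Nat.card (P : Subgroup E)) m := by
      rw [hj]
      apply Nat.Coprime.pow_left
      rwa [Nat.Prime.coprime_iff_not_dvd hp]
    have h1 : Nat.card (P : Subgroup E) ∣ n := hpm'.dvd_of_dvd_mul_left hdvd
    have h2 : ∀ y : (P : Subgroup E), y ^ k = y := fun y =>
      pow_eq_self_of_orderOf_dvd (dvd_trans (orderOf_dvd_natCard y) h1) hk1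
    rw [h2, h2, h2]

/-- the `n`-part homomorphism of a nilpotent group -/
def partHom {E : Type*} [Group E] [Finite E] [Group.IsNilpotent E]
    {m n k : ℕ} (hcop : m.Coprime n) (hE : Nat.card E ∣ m * n) (hk0 : m ∣ k)
    (hk1 : k ≡ 1 [MOD n]) : E →* E where
  toFun := fun a => a ^ k
  map_one' := one_pow k
  map_mul' := mul_pow_of_isNilpotent hcop hE hk0 hk1

theorem partHom_apply {E : Type*} [Group E] [Finite E] [Group.IsNilpotent E]
    {m n k : ℕ} (hcop : m.Coprime n) (hE : Nat.card E ∣ m * n) (hk0 : m ∣ k)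
    (hk1 : k ≡ 1 [MOD n]) (a : E) : partHom hcop hE hk0 hk1 a = a ^ k := rfl

/-- a finite group all of whose elements have order dividing `n`, and whose order divides
`m * n` with `m`, `n` coprime, has order dividing `n` -/
theorem card_dvd_of_forall_pow_eq_one {B : Type*} [Group B] [Finite B] {m n : ℕ}
    (hcop : m.Coprime n) (hB : Nat.card B ∣ m * n) (h : ∀ b : B, b ^ n = 1) : Nat.card B ∣ n := by
  have h1 : Nat.Coprime (Nat.card B) m := by
    apply Nat.Coprime.symm
    rw [Nat.coprime_iff_gcd_eq_one]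
    by_contra hne
    obtain ⟨q, hq, hqd⟩ := Nat.exists_prime_and_dvd hne
    have : Fact q.Prime := ⟨hq⟩
    have hqm : q ∣ m := dvd_trans hqd (Nat.gcd_dvd_left _ _)
    have hqB : q ∣ Nat.card B := dvd_trans hqd (Nat.gcd_dvd_right _ _)
    obtain ⟨b, hb⟩ := exists_prime_orderOf_dvd_card' q hqB
    have hqn : q ∣ n := by
      rw [← hb]
      exact orderOf_dvd_of_pow_eq_one (h b)
    exact hq.one_lt.ne' (Nat.eq_one_of_dvd_coprimes hcop hqm hqn)
  exact h1.dvd_of_dvd_mul_left hB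

end Cfsg.Agent.Lib.Helper4
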