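import Mathlib
import Cfsg.Prelude.Def_Characters
import Cfsg.Agent.Lib.Helper4.Brauer3
import Cfsg.Agent.Lib.Helper4.PiPart
import Cfsg.Agent.Lib.Helper20.CharComplete

set_option autoImplicit false

namespace Cfsg.Agent.Lib.Helper4

open Cfsg.Agent.Lib.Helper19
open scoped ComplexConjugate

universe u

variable {G : Type u} [Group G] [Fintype G]

theorem classInner_mul_left_eq (ψ θ χ : G → ℂ) :
    classInner (ψ * θ) χ = classInner θ ((fun g => conj (ψ g)) * χ) := by
  unfold classInner
  congr 1
  apply Finset.sum_congr rfl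
  intro g _
  simp only [Pi.mul_apply, map_mul, Complex.conj_conj]
  ring

/-- Brauer's characterization of characters with coefficients in an additive subgroup of `ℂ` -/
theorem brauer_coeff (R : AddSubgroup ℂ) {θ : G → ℂ} (hθ : IsClassFunction G θ)
    (h : ∀ E : Subgroup G, IsElem E → ∀ [Fintype E] (η : E → ℂ), IsCharacter E η →
      classInner (fun e : E => θ e) η ∈ R) {χ : G → ℂ} (hχ : IsCharacter G χ) :
    classInner θ χ ∈ R := by
  classical
  have key : ∀ f ∈ indSpan (IsElem (G := G)), classInner (f * θ) χ ∈ R := by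
    intro f hf
    induction hf using AddSubgroup.closure_induction with
    | mem φ hφ =>
      obtain ⟨E, ψ, hE, hψ, rfl⟩ := hφ
      rw [← indFun_mul_restrict E ψ θ hθ,
        Cfsg.Agent.S0146.result E _ χ (isClassFunction_of_char hχ), classInner_mul_left_eq]
      exact h E hE _ (isCharacter_mul (isCharacter_conj hψ) (isCharacter_restrict hχ E))
    | zero =>
      rw [zero_mul]
      simp only [classInner, Pi.zero_apply, zero_mul, Finset.sum_const_zero, mul_zero]
      exact R.zero_mem
    | add a b _ _ ha hb =>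
      rw [add_mul, classInner_add_left]
      exact R.add_mem ha hb
    | neg a _ ha =>
      rw [neg_mul, classInner_neg_left]
      exact R.neg_mem ha
  have h1 := key _ one_mem_indSpan_isElem
  have h3 : (fun _ => 1 : G → ℂ) * θ = θ := by
    funext t
    simp
  rwa [h3] at h1

/-- A class function that only depends on the `n`-part of its argument: coefficients can be
tested on elementary groups of order dividing `n`. -/
theorem section_coeff (R : AddSubgroup ℂ) {m n k : ℕ} (hmn : Nat.card G = m * n)
    (hcop : m.Coprime n) (hk0 : m ∣ k) (hk1 : k ≡ 1 [MOD n])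
    {θ : G → ℂ} (hθ : IsClassFunction G θ) (hpow : ∀ x : G, θ (x ^ k) = θ x)
    (h : ∀ (B : Type u) [Group B] [Fintype B] (ι : B →* G), Function.Injective ι →
      (∃ p : ℕ, p.Prime ∧ IsElementary p B) → Nat.card B ∣ n →
      ∀ β : B → ℂ, IsIrrCharacter B β → classInner (fun b => θ (ι b)) β ∈ R)
    {χ : G → ℂ} (hχ : IsCharacter G χ) : classInner θ χ ∈ R := by
  classical
  refine brauer_coeff R hθ ?_ hχ
  intro E hE _ η hη
  obtain ⟨p, hp, hEl⟩ := hE
  have : Fact p.Prime := ⟨hp⟩
  have hnil : Group.IsNilpotent E := isNilpotent_of_isElementary hEl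
  have hcardE : Nat.card E ∣ m * n := by
    rw [← hmn]
    exact Subgroup.card_subgroup_dvd_card E
  let ν : E →* E := partHom hcop hcardE hk0 hk1
  let ι : ν.range →* G := E.subtype.comp ν.range.subtype
  have hι : Function.Injective ι := by
    intro a b hab
    apply Subtype.ext
    apply Subtype.ext
    exact hab
  have hB1 : ∃ p : ℕ, p.Prime ∧ IsElementary p ν.range := ⟨p, hp, isElementary_subgroup hEl _⟩
  have hB2 : Nat.card ν.range ∣ n := by
    apply card_dvd_of_forall_pow_eq_one hcop
      (dvd_trans (Subgroup.card_subgroup_dvd_card ν.range) hcardE)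
    rintro ⟨_, e, rfl⟩
    apply Subtype.ext
    change (e ^ k) ^ n = 1
    rw [← pow_mul]
    apply pow_eq_one_of_orderOf_dvd (dvd_trans (orderOf_dvd_natCard e) hcardE)
    exact Nat.mul_dvd_mul_right hk0 n
  have hF : IsClassFunction ν.range (fun b => θ (ι b)) := by
    intro g x
    change θ (ι (x * g * x⁻¹)) = θ (ι g)
    rw [map_mul, map_mul, map_inv]
    exact hθ _ _
  have := finite_irrCharacter (G := ν.range)
  have := Fintype.ofFinite (IrrCharacter ν.range)
  have hexp := Cfsg.Agent.Lib.Helper20.eq_sum_classInner_smul hF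
  have hres : (fun e : E => θ e) = ∑ β : IrrCharacter ν.range,
      classInner (fun b => θ (ι b)) (β : ν.range → ℂ) •
        (fun e : E => (β : ν.range → ℂ) (ν.rangeRestrict e)) := by
    funext e
    have h1 : θ e = θ (ι (ν.rangeRestrict e)) := by
      rw [← hpow]
      rfl
    rw [h1]
    have h2 := congrFun hexp (ν.rangeRestrict e)
    rw [h2]
    simp only [Finset.sum_apply, Pi.smul_apply]
  rw [hres, classInner_sum_left]
  apply AddSubgroup.sum_mem
  intro β _
  rw [classInner_smul_left]
  obtain ⟨N, hN⟩ := classInner_char_char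
    (isCharacter_comp_hom (isCharacter_of_irr β.2) ν.rangeRestrict) hη
  rw [hN, mul_comm, ← nsmul_eq_mul]
  apply AddSubgroup.nsmul_mem
  exact h ν.range ι hι hB1 hB2 β β.2

end Cfsg.Agent.Lib.Helper4
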