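import Cfsg.Agent.Lib.Helper83.AbInertia
import Cfsg.Agent.Lib.Helper79.ExtCyclicChar
import Cfsg.Agent.Lib.Helper19.IndFun2

set_option autoImplicit false

namespace Cfsg.Agent.Lib.Helper4

open Cfsg Cfsg.Agent.Lib.Helper19 Cfsg.Agent.Lib.Helper20 Cfsg.Agent.Lib.Helper5
open scoped ComplexConjugate

/-- Clifford count over a normal subgroup with cyclic quotient: the number of irreducible
characters over `θ` is `|T : K|`. -/
theorem defOne_R1 {X : Type*} [Group X] [Fintype X] (K T : Subgroup X) [hK : K.Normal] [Fintype K]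
    {A : Type*} [Group A] [IsCyclic A] (φ : X →* A) (hφ : φ.ker = K) (θ : IrrCharacter K)
    (hT : ∀ g : X, g ∈ T ↔ ∀ h : K, (θ : K → ℂ) ⟨g * h * g⁻¹, hK.conj_mem h h.2 g⟩
      = (θ : K → ℂ) h) :
    ∃ 𝒞 : Finset (IrrCharacter X), 𝒞.card * Nat.card K = Nat.card T ∧
      ∀ χ ∈ 𝒞, classInner (fun n : K => (χ : X → ℂ) n) (θ : K → ℂ) ≠ 0 := by
  classical
  have hθ : IsIrrCharacter K (θ : K → ℂ) := θ.2
  have hθcl := isClassFunction_of_isCharacter (isCharacter_of_isIrrCharacter hθ)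
  have hKT : K ≤ T := by
    intro x hx
    rw [hT]
    intro h
    exact hθcl h ⟨x, hx⟩
  have hab : ∀ x ∈ T, ∀ y ∈ T, x * y * x⁻¹ * y⁻¹ ∈ K := by
    intro x _ y _
    rw [← hφ, MonoidHom.mem_ker]
    obtain ⟨g, hg⟩ := IsCyclic.exists_generator (α := A)
    obtain ⟨i, hi⟩ := Subgroup.mem_zpowers_iff.mp (hg (φ x))
    obtain ⟨j, hj⟩ := Subgroup.mem_zpowers_iff.mp (hg (φ y))
    simp only [map_mul, map_inv, ← hi, ← hj]
    rw [← zpow_add, ← zpow_neg, ← zpow_neg, ← zpow_add, ← zpow_add]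
    have : i + j + -i + -j = 0 := by ring
    rw [this, zpow_zero]
  obtain ⟨e, C, he, hC, hcard, hind, -, hext, -⟩ := Helper83.ind_abelian_inertia K T (θ : K → ℂ) hθ hT hab
  -- the extension
  have he1 : e = 1 := by
    apply hext
    set K' : Subgroup T := K.subgroupOf T with hK'
    have hK'n : K'.Normal := Subgroup.Normal.subgroupOf hK T
    let eq : K' ≃* K := Subgroup.subgroupOfEquivOfLe hKT
    set θ' : K' → ℂ := fun x => (θ : K → ℂ) ⟨((x : T) : X), Subgroup.mem_subgroupOf.mp x.2⟩ with hθ'def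
    have hθ'e : θ' = (θ : K → ℂ) ∘ eq := by
      funext x
      rfl
    have hθ' : IsIrrCharacter K' θ' := by
      rw [hθ'e]; exact isIrrCharacter_comp_equiv eq hθ
    have hinv' : ∀ (t : T) (x : K'), θ' ⟨t * x * t⁻¹, hK'n.conj_mem (x : T) x.2 t⟩ = θ' x := by
      intro t x
      exact (hT t).mp t.2 ⟨((x : T) : X), Subgroup.mem_subgroupOf.mp x.2⟩
    have hcyc : IsCyclic (T ⧸ K') := by
      let ψ : T →* A := φ.comp T.subtype
      have hψ : ψ.ker = K' := by
        ext t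
        rw [MonoidHom.mem_ker, hK', Subgroup.mem_subgroupOf, ← hφ, MonoidHom.mem_ker]
        rfl
      exact isCyclic_of_injective
        ((QuotientGroup.kerLift ψ).comp (QuotientGroup.quotientMulEquivOfEq hψ.symm).toMonoidHom)
        ((QuotientGroup.kerLift_injective ψ).comp
          (QuotientGroup.quotientMulEquivOfEq hψ.symm).injective)
    obtain ⟨χ, hχ, hχv⟩ := Helper79.exists_irr_ext_of_cyclic K' hcyc θ' hθ' hinv'
    exact ⟨χ, hχ, hχv⟩
  subst he1
  refine ⟨C.attach.map ⟨fun χ => (⟨χ.1, hC χ.1 χ.2⟩ : IrrCharacter X), ?_⟩, ?_, ?_⟩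
  · intro a b hab'
    exact Subtype.ext (congrArg (fun z : IrrCharacter X => (z : X → ℂ)) hab')
  · rw [Finset.card_map, Finset.card_attach, ← hcard]
    ring
  · intro χ hχ
    obtain ⟨⟨χ₀, hχ₀⟩, -, rfl⟩ := Finset.mem_map.1 hχ
    show classInner (fun n : K => χ₀ n) (θ : K → ℂ) ≠ 0
    have hχirr := hC χ₀ hχ₀
    have hcl : IsClassFunction X χ₀ :=
      isClassFunction_of_isCharacter (isCharacter_of_isIrrCharacter hχirr)
    have h1 := frobenius_reciprocity K (θ : K → ℂ) χ₀ hcl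
    rw [hind, Nat.cast_one, one_smul, classInner_sum_left, Finset.sum_eq_single χ₀,
      classInner_irr_self hχirr] at h1
    · rw [← classInner_conj_symm, ← h1]
      simp
    · intro b hb hne
      exact classInner_irr_ne (hC b hb) hχirr hne
    · intro h; exact absurd hχ₀ h

end Cfsg.Agent.Lib.Helper4
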