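import Mathlib
import Cfsg.Prelude.Def_Characters
import Cfsg.Agent.Lib.Helper4.CharBasic
import Cfsg.Agent.S1496

set_option autoImplicit false

namespace Cfsg.Agent.Lib.Helper4

open scoped ComplexConjugate

universe u

/-- trace of the restriction to the image of a projection -/
theorem trace_restrict_eq_trace_comp_proj {V : Type*} [AddCommGroup V] [Module ℂ V]
    [FiniteDimensional ℂ V] {W : Submodule ℂ V} {e : V →ₗ[ℂ] V} (he : LinearMap.IsProj W e)
    (f : V →ₗ[ℂ] V) (hf : ∀ w ∈ W, f w ∈ W) :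
    LinearMap.trace ℂ W (f.restrict hf) = LinearMap.trace ℂ V (f ∘ₗ e) := by
  have h1 : f ∘ₗ e = (f ∘ₗ W.subtype) ∘ₗ (e.codRestrict W he.map_mem) := by
    ext v
    rfl
  rw [h1, LinearMap.trace_comp_comm']
  congr 1
  ext w
  change f w = e (f w)
  exact (he.map_id _ (hf w w.2)).symm

/-- The character of a group `T` normalizing `K` on the `K`-fixed points. -/
theorem isCharacter_avg {T G : Type*} [Group T] [Group G] (f : T →* G) (K : Subgroup G)
    [Fintype K] (hf : ∀ t : T, ∀ k ∈ K, (f t)⁻¹ * k * f t ∈ K) {χ : G → ℂ}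
    (hχ : IsCharacter G χ) :
    IsCharacter T (fun t => (Nat.card K : ℂ)⁻¹ * ∑ k : K, χ (f t * k)) := by
  obtain ⟨n, ρ, rfl⟩ := hχ
  have hK0 : (Nat.card K : ℂ) ≠ 0 := by exact_mod_cast Nat.card_pos.ne'
  let W : Submodule ℂ (Fin n → ℂ) := Representation.invariants (ρ.comp K.subtype)
  have hWmem : ∀ v, v ∈ W ↔ ∀ k : K, ρ (k : G) v = v := fun v => Iff.rfl
  let e : (Fin n → ℂ) →ₗ[ℂ] (Fin n → ℂ) := (Nat.card K : ℂ)⁻¹ • ∑ k : K, ρ (k : G)
  have he : LinearMap.IsProj W e := by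
    constructor
    · intro v
      rw [hWmem]
      intro k'
      change ρ (k' : G) (((Nat.card K : ℂ)⁻¹ • ∑ k : K, ρ (k : G)) v) =
        ((Nat.card K : ℂ)⁻¹ • ∑ k : K, ρ (k : G)) v
      simp only [LinearMap.smul_apply, LinearMap.sum_apply, map_smul, map_sum]
      congr 1
      conv_rhs => rw [← Equiv.sum_comp (Equiv.mulLeft k')]
      apply Finset.sum_congr rfl
      intro k _
      simp only [Equiv.coe_mulLeft, Subgroup.coe_mul, map_mul, Module.End.mul_apply]
    · intro v hv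
      rw [hWmem] at hv
      change ((Nat.card K : ℂ)⁻¹ • ∑ k : K, ρ (k : G)) v = v
      simp only [LinearMap.smul_apply, LinearMap.sum_apply, hv, Finset.sum_const,
        Finset.card_univ, ← Nat.card_eq_fintype_card]
      rw [← Nat.cast_smul_eq_nsmul ℂ, smul_smul, inv_mul_cancel₀ hK0, one_smul]
  have hW : ∀ t : T, ∀ w ∈ W, ρ (f t) w ∈ W := by
    intro t w hw
    rw [hWmem] at hw ⊢
    intro k
    have h1 := hw ⟨(f t)⁻¹ * k * f t, hf t k k.2⟩
    have h2 : (k : G) * f t = f t * ((f t)⁻¹ * k * f t) := by group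
    rw [← Module.End.mul_apply, ← map_mul, h2, map_mul, Module.End.mul_apply]
    exact congrArg (ρ (f t)) h1
  let σ : Representation ℂ T W :=
    { toFun := fun t => (ρ (f t)).restrict (hW t)
      map_one' := by
        ext w
        simp
      map_mul' := by
        intro s t
        ext w
        simp }
  have hσ := isCharacter_of_rep σ
  convert hσ using 1
  funext t
  change _ = LinearMap.trace ℂ W ((ρ (f t)).restrict (hW t))
  rw [trace_restrict_eq_trace_comp_proj he]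
  change _ = LinearMap.trace ℂ _ (ρ (f t) * ((Nat.card K : ℂ)⁻¹ • ∑ k : K, ρ (k : G)))
  rw [mul_smul_comm, map_smul, smul_eq_mul]
  congr 1
  rw [Finset.mul_sum, map_sum]
  apply Finset.sum_congr rfl
  intro k _
  change LinearMap.trace ℂ _ (ρ (f t * k)) = _
  rw [map_mul]

/-- weighted orbit counting -/
theorem exists_int_sum_eq_card_mul {L X : Type*} [Group L] [Fintype L] [MulAction L X]
    [Fintype X] (w : X → ℂ) (hinv : ∀ (l : L) (x : X), w (l • x) = w x)
    (hint : ∀ x, ∃ z : ℤ, w x = (Nat.card (MulAction.stabilizer L x) : ℂ) * z) :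
    ∃ Z : ℤ, ∑ x, w x = (Nat.card L : ℂ) * Z := by
  classical
  choose z hz using hint
  have e := MulAction.selfEquivSigmaOrbits L X
  refine ⟨∑ ω : MulAction.orbitRel.Quotient L X, z ω.out, ?_⟩
  rw [← Equiv.sum_comp (MulAction.selfEquivSigmaOrbits L X).symm, Fintype.sum_sigma]
  push_cast
  rw [Finset.mul_sum]
  apply Finset.sum_congr rfl
  intro ω _
  have h1 : ∀ y : MulAction.orbit L ω.out,
      w ((MulAction.selfEquivSigmaOrbits L X).symm ⟨ω, y⟩) = w ω.out := by
    rintro ⟨y, l, rfl⟩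
    exact hinv l _
  simp only [h1, Finset.sum_const, Finset.card_univ, nsmul_eq_mul]
  rw [hz, ← mul_assoc]
  congr 1
  have h2 := MulAction.card_orbit_mul_card_stabilizer_eq_card_group L ω.out
  rw [Nat.card_eq_fintype_card, Nat.card_eq_fintype_card, ← h2]
  push_cast
  rfl

/-- averaging a class function over a coset `a K` (`a` normalizing `K`, of coprime order) can be
done over `a C_K(a)` -/
theorem avg_coset_eq {G : Type*} [Group G] [Finite G] (K : Subgroup G) (a : G)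
    (ha : a ∈ Subgroup.normalizer (K : Set G)) (hcop : Nat.Coprime (orderOf a) (Nat.card K))
    [Fintype K] [Fintype ↥(K ⊓ Subgroup.centralizer ({a} : Set G))]
    {χ : G → ℂ} (hχ : IsClassFunction G χ) :
    (Nat.card K : ℂ)⁻¹ * ∑ k : K, χ (a * k) =
      (Nat.card ↥(K ⊓ Subgroup.centralizer ({a} : Set G)) : ℂ)⁻¹ *
        ∑ u : ↥(K ⊓ Subgroup.centralizer ({a} : Set G)), χ (a * u) := by
  classical
  have base : ∀ k : K, ∃ x : K, ∃ u : ↥(K ⊓ Subgroup.centralizer ({a} : Set G)),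
      (x : G) * (a * u) * (x : G)⁻¹ = a * k := by
    intro k
    have hk : a * k * a⁻¹ ∈ K := (Subgroup.mem_normalizer_iff.mp ha k).mp k.2
    obtain ⟨x', hx', c, hc, hca, hx⟩ := Cfsg.Agent.S1496.result K a ha hcop _ hk
    refine ⟨⟨x'⁻¹, K.inv_mem hx'⟩, ⟨c, hc, ?_⟩, ?_⟩
    · exact Subgroup.mem_centralizer_singleton_iff.mpr hca
    · change x'⁻¹ * (a * c) * x'⁻¹⁻¹ = a * k
      rw [← hca, ← hx]
      group
  choose xk uk hk using base
  let Ψ : K × ↥(K ⊓ Subgroup.centralizer ({a} : Set G)) →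
      K × ↥(K ⊓ Subgroup.centralizer ({a} : Set G)) :=
    fun q => (xk q.1 * ⟨(q.2 : G)⁻¹, K.inv_mem q.2.2.1⟩, q.2 * uk q.1 * q.2⁻¹)
  have hΨ : ∀ q, (((Ψ q).1 : K) : G) * (a * ((Ψ q).2 : G)) * (((Ψ q).1 : K) : G)⁻¹ = a * q.1 := by
    rintro ⟨k, c⟩
    have hc : (c : G) * a = a * c := Subgroup.mem_centralizer_singleton_iff.mp c.2.2
    rw [← hk k]
    change ((xk k : G) * (c : G)⁻¹) * (a * ((c : G) * (uk k : G) * (c : G)⁻¹)) *
      ((xk k : G) * (c : G)⁻¹)⁻¹ = _
    have h1 : (c : G)⁻¹ * (a * ((c : G) * (uk k : G) * (c : G)⁻¹)) * (c : G) = a * (uk k : G) := by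
      rw [← mul_assoc a, ← mul_assoc a, ← hc]
      group
    calc ((xk k : G) * (c : G)⁻¹) * (a * ((c : G) * (uk k : G) * (c : G)⁻¹)) *
          ((xk k : G) * (c : G)⁻¹)⁻¹
        = (xk k : G) * ((c : G)⁻¹ * (a * ((c : G) * (uk k : G) * (c : G)⁻¹)) * (c : G)) *
          (xk k : G)⁻¹ := by group
      _ = _ := by rw [h1]
  have hinj : Function.Injective Ψ := by
    rintro ⟨k, c⟩ ⟨k', c'⟩ h
    have h1 := hΨ (k, c)
    rw [h, hΨ (k', c')] at h1
    have hkk : k' = k := Subtype.ext (mul_left_cancel h1)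
    subst hkk
    have h2 := congrArg Prod.fst h
    have h3 : (⟨(c : G)⁻¹, K.inv_mem c.2.1⟩ : K) = ⟨(c' : G)⁻¹, K.inv_mem c'.2.1⟩ :=
      mul_left_cancel h2
    have h4 : (c : G)⁻¹ = (c' : G)⁻¹ := congrArg Subtype.val h3
    have h5 : c = c' := Subtype.ext (inv_injective h4)
    rw [h5]
  have hbij : Function.Bijective Ψ := Finite.injective_iff_bijective.mp hinj
  have hsum : ∑ q : K × ↥(K ⊓ Subgroup.centralizer ({a} : Set G)),
      χ ((q.1 : G) * (a * (q.2 : G)) * (q.1 : G)⁻¹) =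
      ∑ q : K × ↥(K ⊓ Subgroup.centralizer ({a} : Set G)), χ (a * q.1) := by
    rw [← Equiv.sum_comp (Equiv.ofBijective Ψ hbij)]
    apply Finset.sum_congr rfl
    intro q _
    rw [Equiv.ofBijective_apply, hΨ q]
  simp only [hχ _ _] at hsum
  rw [Fintype.sum_prod_type, Fintype.sum_prod_type] at hsum
  simp only [Finset.sum_const, Finset.card_univ, nsmul_eq_mul, ← Nat.card_eq_fintype_card] at hsum
  rw [← Finset.mul_sum] at hsum
  have hK0 : (Nat.card K : ℂ) ≠ 0 := by exact_mod_cast Nat.card_pos.ne'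
  have hC0 : (Nat.card ↥(K ⊓ Subgroup.centralizer ({a} : Set G)) : ℂ) ≠ 0 := by
    exact_mod_cast Nat.card_pos.ne'
  field_simp
  rw [mul_comm, ← hsum, mul_comm]

end Cfsg.Agent.Lib.Helper4
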