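import Mathlib
import Cfsg.Agent.Lib.Helper61.HHDefs
import Cfsg.Agent.Lib.Helper4.HHCSchur

set_option autoImplicit false

namespace Cfsg.Agent.Lib.Helper4.HHC

open Cfsg.Agent.Lib.Helper61.HH Module

universe u v w

variable {K : Type u} [Field K]

theorem dimq_finrank_indep {W : Type v} [AddCommGroup W] [Module K W] [FiniteDimensional K W]
    {ι : Type*} [Fintype ι] (D : ι → Submodule K W) (k : ℕ)
    (hfr : ∀ i, finrank K (D i) = k) (hind : iSupIndep D) (htop : iSup D = ⊤) :
    finrank K W = Fintype.card ι * k := by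
  classical
  have hI := DirectSum.isInternal_submodule_of_iSupIndep_of_iSup_eq_top hind htop
  have e := LinearEquiv.ofBijective (DirectSum.coeLinearMap D) hI
  rw [← e.finrank_eq, Module.finrank_directSum]
  simp [hfr]

theorem dimq_inv_apply {W : Type v} [AddCommGroup W] [Module K W] {Q : Type w} [Group Q]
    (ρ : Q →* Module.End K W) (g : Q) (y : W) : ρ g⁻¹ (ρ g y) = y := by
  change (ρ g⁻¹ * ρ g) y = y
  rw [← map_mul, inv_mul_cancel, map_one]
  rfl

theorem dimq_count {W : Type v} [AddCommGroup W] [Module K W] [FiniteDimensional K W]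
    {Q : Type w} [Group Q] [Finite Q]
    (ρ : Q →* Module.End K W) (hirr : Irr ρ) (A : Module.End K W) (z0 : Q → K)
    (hz : ∀ g, A * ρ g = z0 g • (ρ g * A)) (M0 : Subgroup Q)
    (hM0 : ∀ g g', z0 g = z0 g' → g⁻¹ * g' ∈ M0) (μ : K) (hμ : μ ≠ 0)
    (U : Submodule K W) (hUE : U ≤ Module.End.eigenspace A μ) (hU0 : U ≠ ⊥)
    (hUinv : ∀ m ∈ M0, ∀ y ∈ U, ρ m y ∈ U) :
    finrank K W = M0.index * finrank K U := by
  classical
  have : Fintype (Q ⧸ M0) := Fintype.ofFinite _
  have hinj : ∀ g, Function.Injective (ρ g) := by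
    intro g x y hxy
    rw [← dimq_inv_apply ρ g x, hxy, dimq_inv_apply]
  let p : Q ⧸ M0 → Submodule K W := fun c => U.map (ρ c.out)
  have hp1 : ∀ c, p c ≤ Module.End.eigenspace A (z0 c.out * μ) := by
    rintro c _ ⟨u, hu, rfl⟩
    rw [Module.End.mem_eigenspace_iff]
    have h1 := congrArg (fun f : Module.End K W => f u) (hz c.out)
    change A (ρ c.out u) = z0 c.out • ρ c.out (A u) at h1
    rw [h1, Module.End.mem_eigenspace_iff.mp (hUE hu), map_smul, smul_smul]
  have hinj2 : Function.Injective (fun c : Q ⧸ M0 => z0 c.out * μ) := by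
    intro c c' hcc
    have h1 : z0 c.out = z0 c'.out := mul_right_cancel₀ hμ hcc
    have h2 := hM0 _ _ h1
    rw [← QuotientGroup.out_eq' c, ← QuotientGroup.out_eq' c']
    exact QuotientGroup.eq.mpr h2
  have hind : iSupIndep p :=
    ((Module.End.eigenspaces_iSupIndep A).comp hinj2).mono hp1
  have hinvS : ∀ g, ∀ y ∈ iSup p, ρ g y ∈ iSup p := by
    intro g y hy
    have h1 : (iSup p).map (ρ g) ≤ iSup p := by
      rw [Submodule.map_iSup]
      apply iSup_le
      intro c
      obtain ⟨m, hm⟩ := QuotientGroup.mk_out_eq_mul M0 (g * c.out)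
      refine le_trans ?_ (le_iSup p ((g * c.out : Q) : Q ⧸ M0))
      rintro _ ⟨_, ⟨u, hu, rfl⟩, rfl⟩
      refine ⟨ρ (m : Q)⁻¹ u, hUinv _ (M0.inv_mem m.2) u hu, ?_⟩
      rw [hm]
      change (ρ (g * c.out * m) * ρ (m : Q)⁻¹) u = (ρ g * ρ c.out) u
      rw [← map_mul, ← map_mul, mul_inv_cancel_right]
    exact h1 ⟨y, hy, rfl⟩
  have htop : iSup p = ⊤ := by
    rcases hirr (iSup p) hinvS with h | h
    · exfalso
      obtain ⟨u, hu, hu0⟩ := Submodule.exists_mem_ne_zero_of_ne_bot hU0
      have h1 : ρ ((1 : Q) : Q ⧸ M0).out u ∈ iSup p :=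
        (le_iSup p ((1 : Q) : Q ⧸ M0)) ⟨u, hu, rfl⟩
      rw [h, Submodule.mem_bot] at h1
      apply hu0
      apply hinj ((1 : Q) : Q ⧸ M0).out
      rw [h1, map_zero]
    · exact h
  have hfr : ∀ c, finrank K (p c) = finrank K U := by
    intro c
    exact (Submodule.equivMapOfInjective (ρ c.out) (hinj _) U).finrank_eq.symm
  rw [dimq_finrank_indep p _ hfr hind htop, Subgroup.index, Nat.card_eq_fintype_card]

/-- DIMQ -/
theorem dimq [IsAlgClosed K] (q : ℕ) [Fact q.Prime] (hqK : (q : K) ≠ 0) (c : ℕ) :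
    ∀ (Q : Type w) [Group Q] [Finite Q], Nat.card Q = c → IsPGroup q Q →
    ∀ (W : Type v) [AddCommGroup W] [Module K W] [FiniteDimensional K W] [Nontrivial W]
      (ρ : Q →* Module.End K W), Irr ρ → ∃ b : ℕ, finrank K W = q ^ b := by
  induction c using Nat.strong_induction_on with
  | _ c ih =>
  intro Q _ _ hc hQ W _ _ _ _ ρ hirr
  have hsch := sch_of_irr ρ hirr
  have h10 : (1 : Module.End K W) ≠ 0 := one_ne_zero
  have hρ0 : ∀ g, ρ g ≠ 0 := by
    intro g h0
    apply h10
    rw [← map_one ρ, ← inv_mul_cancel g, map_mul, h0, mul_zero]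
  let Sc : Subgroup Q :=
    { carrier := {x | IsSc ρ x}
      one_mem' := ⟨1, by rw [map_one, one_smul]⟩
      mul_mem' := by
        rintro x y ⟨l, hl⟩ ⟨l', hl'⟩
        exact ⟨l * l', by rw [map_mul, hl, hl', smul_mul_smul_comm, mul_one]⟩
      inv_mem' := by
        rintro x ⟨l, hl⟩
        have hl0 : l ≠ 0 := by
          rintro rfl
          rw [zero_smul] at hl
          exact hρ0 x hl
        refine ⟨l⁻¹, ?_⟩
        have h1 : ρ x⁻¹ * ρ x = 1 := by rw [← map_mul, inv_mul_cancel, map_one]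
        rw [hl, mul_smul_comm, mul_one] at h1
        rw [← h1, smul_smul, inv_mul_cancel₀ hl0, one_smul] }
  have hScmem : ∀ x, x ∈ Sc ↔ IsSc ρ x := fun x => Iff.rfl
  have hScn : Sc.Normal := by
    constructor
    rintro x ⟨l, hl⟩ g
    refine ⟨l, ?_⟩
    rw [map_mul, map_mul, hl, mul_smul_comm, mul_one, smul_mul_assoc, ← map_mul, mul_inv_cancel,
      map_one]
  by_cases hSc : Sc = ⊤
  · -- every operator is a scalar
    refine ⟨0, ?_⟩
    obtain ⟨w, hw⟩ := exists_ne (0 : W)
    have h1 := hirr (K ∙ w) (by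
      intro g y hy
      obtain ⟨l, hl⟩ : IsSc ρ g := (hScmem g).mp (by rw [hSc]; trivial)
      rw [hl]
      exact Submodule.smul_mem _ l hy)
    rcases h1 with h1 | h1
    · exfalso
      have : w ∈ (K ∙ w) := Submodule.mem_span_singleton_self w
      rw [h1, Submodule.mem_bot] at this
      exact hw this
    · rw [pow_zero, ← finrank_top K W, ← h1]
      exact finrank_span_singleton hw
  · -- an element which is central modulo scalars
    have hnt : Nontrivial (Q ⧸ Sc) := by
      apply Finite.one_lt_card_iff_nontrivial.mp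
      have h1 : Sc.index ≠ 1 := fun h => hSc (Subgroup.index_eq_one.mp h)
      have h2 : Sc.index ≠ 0 := Subgroup.index_ne_zero_of_finite
      change 1 < Sc.index
      omega
    have hcn := (hQ.to_quotient Sc).center_nontrivial
    obtain ⟨⟨a', ha'⟩, hne⟩ := exists_ne (1 : Subgroup.center (Q ⧸ Sc))
    obtain ⟨a, rfl⟩ := QuotientGroup.mk_surjective a'
    have haSc : ¬ IsSc ρ a := by
      intro h
      apply hne
      apply Subtype.ext
      exact (QuotientGroup.eq_one_iff a).mpr ((hScmem a).mpr h)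
    obtain ⟨A, hA⟩ : ∃ A : Module.End K W, A = ρ a := ⟨_, rfl⟩
    have hgi : ∀ g, ρ g⁻¹ * ρ g = 1 := fun g => by rw [← map_mul, inv_mul_cancel, map_one]
    have hig : ∀ g, ρ g * ρ g⁻¹ = 1 := fun g => by rw [← map_mul, mul_inv_cancel, map_one]
    have hex : ∀ g, ∃ l : K, A * ρ g = l • (ρ g * A) := by
      intro g
      have h1 := Subgroup.mem_center_iff.mp ha' (g : Q ⧸ Sc)
      have h2 : ((g * a : Q) : Q ⧸ Sc) = ((a * g : Q) : Q ⧸ Sc) := h1
      obtain ⟨l, hl⟩ : IsSc ρ ((g * a)⁻¹ * (a * g)) := (hScmem _).mp (QuotientGroup.eq.mp h2)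
      refine ⟨l, ?_⟩
      have h3 : ρ (a * g) = ρ (g * a) * ρ ((g * a)⁻¹ * (a * g)) := by
        rw [← map_mul, mul_inv_cancel_left]
      rw [hA, ← map_mul, h3, hl, mul_smul_comm, mul_one, map_mul]
    choose z0 hz0 using hex
    have hz00 : ∀ g, z0 g ≠ 0 := by
      intro g h0
      have h1 := hz0 g
      rw [h0, zero_smul, hA, ← map_mul] at h1
      exact hρ0 _ h1
    let M0 : Subgroup Q :=
      { carrier := {g | A * ρ g = ρ g * A}
        one_mem' := by
          change A * ρ 1 = ρ 1 * A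
          rw [map_one, mul_one, one_mul]
        mul_mem' := by
          intro x y hx hy
          change A * ρ (x * y) = ρ (x * y) * A
          have hx' : A * ρ x = ρ x * A := hx
          have hy' : A * ρ y = ρ y * A := hy
          rw [map_mul, ← mul_assoc, hx', mul_assoc, hy', mul_assoc]
        inv_mem' := by
          intro g hg
          have hg' : A * ρ g = ρ g * A := hg
          change A * ρ g⁻¹ = ρ g⁻¹ * A
          calc A * ρ g⁻¹ = ρ g⁻¹ * (ρ g * A) * ρ g⁻¹ := by
                rw [← mul_assoc (ρ g⁻¹), hgi, one_mul]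
            _ = ρ g⁻¹ * (A * ρ g) * ρ g⁻¹ := by rw [hg']
            _ = ρ g⁻¹ * A := by
                rw [mul_assoc, mul_assoc, hig, mul_one] }
    have hM0mem : ∀ g, g ∈ M0 ↔ A * ρ g = ρ g * A := fun g => Iff.rfl
    have hM0 : ∀ g g', z0 g = z0 g' → g⁻¹ * g' ∈ M0 := by
      intro g g' hgg
      rw [hM0mem]
      have h1 : ρ g⁻¹ * A = z0 g • (A * ρ g⁻¹) := by
        calc ρ g⁻¹ * A = ρ g⁻¹ * (A * ρ g) * ρ g⁻¹ := by
              rw [mul_assoc, mul_assoc, hig, mul_one]
          _ = z0 g • (A * ρ g⁻¹) := by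
              rw [hz0 g, mul_smul_comm, smul_mul_assoc, ← mul_assoc (ρ g⁻¹), hgi, one_mul]
      have h2 : z0 g • (A * ρ (g⁻¹ * g')) = z0 g • (ρ (g⁻¹ * g') * A) := by
        calc z0 g • (A * ρ (g⁻¹ * g')) = (z0 g • (A * ρ g⁻¹)) * ρ g' := by
              rw [map_mul, smul_mul_assoc, mul_assoc]
          _ = ρ g⁻¹ * (A * ρ g') := by rw [← h1, mul_assoc]
          _ = z0 g • (ρ (g⁻¹ * g') * A) := by
              rw [hz0 g', ← hgg, mul_smul_comm, map_mul, mul_assoc]
      have h3 := congrArg (fun f : Module.End K W => (z0 g)⁻¹ • f) h2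
      simpa only [inv_smul_smul₀ (hz00 g)] using h3
    have hM0top : M0 ≠ ⊤ := by
      intro h
      apply haSc
      unfold IsSc
      rw [← hA]
      apply hsch A
      intro g
      exact (hM0mem g).mp (by rw [h]; trivial)
    obtain ⟨μ, hμ⟩ := Module.End.exists_eigenvalue A
    have hμ0 : μ ≠ 0 := by
      rintro rfl
      obtain ⟨y, hy⟩ := hμ.exists_hasEigenvector
      apply hy.2
      have h1 : A y = 0 := by
        have := hy.apply_eq_smul
        rwa [zero_smul] at this
      rw [← dimq_inv_apply ρ a y, ← hA, h1, map_zero]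
    have hEinv : ∀ m ∈ M0, ∀ y ∈ Module.End.eigenspace A μ, ρ m y ∈ Module.End.eigenspace A μ := by
      intro m hm y hy
      rw [Module.End.mem_eigenspace_iff] at hy ⊢
      have h1 := congrArg (fun f : Module.End K W => f y) ((hM0mem m).mp hm)
      change A (ρ m y) = ρ m (A y) at h1
      rw [h1, hy, map_smul]
    have X1 := dimq_count ρ hirr A z0 hz0 M0 hM0 μ hμ0 (Module.End.eigenspace A μ) le_rfl hμ hEinv
    let σ : M0 →* Module.End K (Module.End.eigenspace A μ) :=
      { toFun := fun m => (ρ (m : Q)).restrict (hEinv m m.2)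
        map_one' := by
          ext y
          simp
        map_mul' := by
          intro s t
          ext y
          simp }
    have hidx0 : M0.index ≠ 0 := Subgroup.index_ne_zero_of_finite
    have hσ : Irr σ := by
      intro U' hU'
      by_cases hb : U' = ⊥
      · exact Or.inl hb
      · right
        have hU0 : U'.map (Module.End.eigenspace A μ).subtype ≠ ⊥ := by
          intro h
          apply hb
          apply Submodule.map_injective_of_injective (Submodule.subtype_injective _)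
          rw [h, Submodule.map_bot]
        have hUE : U'.map (Module.End.eigenspace A μ).subtype ≤ Module.End.eigenspace A μ := by
          rintro _ ⟨y, -, rfl⟩
          exact y.2
        have hUinv : ∀ m ∈ M0, ∀ y ∈ U'.map (Module.End.eigenspace A μ).subtype,
            ρ m y ∈ U'.map (Module.End.eigenspace A μ).subtype := by
          rintro m hm _ ⟨y, hy, rfl⟩
          exact ⟨σ ⟨m, hm⟩ y, hU' ⟨m, hm⟩ y hy, rfl⟩
        have X2 := dimq_count ρ hirr A z0 hz0 M0 hM0 μ hμ0 _ hUE hU0 hUinv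
        rw [X1, Submodule.finrank_map_subtype_eq] at X2
        have h3 : finrank K (Module.End.eigenspace A μ) = finrank K U' :=
          Nat.eq_of_mul_eq_mul_left (Nat.pos_of_ne_zero hidx0) X2
        exact Submodule.eq_top_of_finrank_eq h3.symm
    have hlt : Nat.card M0 < c := by
      have h1 := M0.card_mul_index
      have h2 : M0.index ≠ 1 := fun h => hM0top (Subgroup.index_eq_one.mp h)
      have h3 : 0 < Nat.card M0 := Nat.card_pos
      have h4 : 2 ≤ M0.index := by omega
      rw [← hc, ← h1]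
      nlinarith
    have hntE : Nontrivial (Module.End.eigenspace A μ) := Submodule.nontrivial_iff_ne_bot.mpr hμ
    obtain ⟨b, hb⟩ := ih (Nat.card M0) hlt M0 rfl (hQ.to_subgroup M0) _ σ hσ
    obtain ⟨k, hk⟩ := hQ.index M0
    exact ⟨k + b, by rw [X1, hb, hk, pow_add]⟩

end Cfsg.Agent.Lib.Helper4.HHC
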