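import Mathlib
import Cfsg.Agent.Lib.Helper31.Nilpotent
import Cfsg.Agent.S3889
import Cfsg.Prelude.Def_Transfer

/-! Minimal covers by nilpotent subgroups and abelian Sylow subgroups (S3890, S3891). -/

set_option autoImplicit false
set_option linter.unusedSectionVars false
set_option linter.style.haveILetI false
set_option linter.unusedSimpArgs false

namespace Cfsg.Agent.Lib.Helper4.NilCover

open Cfsg

variable {G : Type*} [Group G] [Finite G]

/-- `𝓐` is a nilpotent minimal cover. -/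
def IsMNC (𝓐 : Finset (Subgroup G)) : Prop :=
  ((∀ A ∈ 𝓐, A ≠ ⊤) ∧ (∀ g : G, ∃ A ∈ 𝓐, g ∈ A)) ∧
    (∀ 𝓑 : Finset (Subgroup G), (∀ A ∈ 𝓑, A ≠ ⊤) ∧ (∀ g : G, ∃ A ∈ 𝓑, g ∈ A) → 𝓐.card ≤ 𝓑.card) ∧
    (∀ A ∈ 𝓐, Group.IsNilpotent ↥A)

/-- two different members never lie in a common proper subgroup -/
theorem merge {𝓐 : Finset (Subgroup G)} (h : IsMNC 𝓐) {A₁ A₂ M : Subgroup G} (h1 : A₁ ∈ 𝓐)
    (h2 : A₂ ∈ 𝓐) (hM : M ≠ ⊤) (h1M : A₁ ≤ M) (h2M : A₂ ≤ M) : A₁ = A₂ := by
  classical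
  by_contra hne
  have hcard := h.2.1 (insert M ((𝓐.erase A₁).erase A₂)) ⟨?_, ?_⟩
  · have h3 : A₂ ∈ 𝓐.erase A₁ := Finset.mem_erase.2 ⟨fun e => hne e.symm, h2⟩
    have h4 : ((𝓐.erase A₁).erase A₂).card = 𝓐.card - 1 - 1 := by
      rw [Finset.card_erase_of_mem h3, Finset.card_erase_of_mem h1]
    have h5 := Finset.card_insert_le M ((𝓐.erase A₁).erase A₂)
    have h6 : 2 ≤ 𝓐.card := by
      have : ({A₁, A₂} : Finset (Subgroup G)) ⊆ 𝓐 := by
        intro X hX
        simp only [Finset.mem_insert, Finset.mem_singleton] at hX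
        rcases hX with rfl | rfl <;> assumption
      have h7 := Finset.card_le_card this
      rwa [Finset.card_pair hne] at h7
    omega
  · intro A hA
    rcases Finset.mem_insert.1 hA with rfl | hA
    · exact hM
    · exact h.1.1 A (Finset.mem_of_mem_erase (Finset.mem_of_mem_erase hA))
  · intro g
    obtain ⟨A, hA, hg⟩ := h.1.2 g
    by_cases e1 : A = A₁
    · exact ⟨M, Finset.mem_insert_self _ _, h1M (e1 ▸ hg)⟩
    by_cases e2 : A = A₂
    · exact ⟨M, Finset.mem_insert_self _ _, h2M (e2 ▸ hg)⟩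
    exact ⟨A, Finset.mem_insert_of_mem (Finset.mem_erase.2 ⟨e2, Finset.mem_erase.2 ⟨e1, hA⟩⟩), hg⟩

/-- splitting an element into its `p`-part and `p'`-part -/
theorem exists_decomp (p : ℕ) [Fact p.Prime] (c : G) :
    ∃ i j : ℕ, c = c ^ i * c ^ j ∧ (∃ k, orderOf (c ^ i) = p ^ k) ∧ (orderOf (c ^ j)).Coprime p := by
  have hp : p.Prime := Fact.out
  have h0 : orderOf c ≠ 0 := (orderOf_pos c).ne'
  obtain ⟨k, m, hm, hkm⟩ := Nat.exists_eq_pow_mul_and_not_dvd h0 p hp.ne_one
  have hco : (p ^ k).Coprime m := Nat.Coprime.pow_left k ((Nat.Prime.coprime_iff_not_dvd hp).2 hm)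
  obtain ⟨i, hi1, hi2⟩ := Nat.chineseRemainder hco 1 0
  obtain ⟨j, hj1, hj2⟩ := Nat.chineseRemainder hco 0 1
  refine ⟨i, j, ?_, ?_, ?_⟩
  · rw [← pow_add]
    conv_lhs => rw [← pow_one c]
    rw [pow_eq_pow_iff_modEq, hkm]
    rw [← Nat.modEq_and_modEq_iff_modEq_mul hco]
    exact ⟨(by simpa using (hi1.add hj1).symm), (by simpa using (hi2.add hj2).symm)⟩
  · have h1 : (c ^ i) ^ (p ^ k) = 1 := by
      rw [← pow_mul]
      apply orderOf_dvd_iff_pow_eq_one.1
      rw [hkm, mul_comm i]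
      exact Nat.mul_dvd_mul_left _ ((Nat.modEq_zero_iff_dvd).1 hi2)
    obtain ⟨k', _, hk'⟩ := (Nat.dvd_prime_pow hp).1 (orderOf_dvd_of_pow_eq_one h1)
    exact ⟨k', hk'⟩
  · have h1 : (c ^ j) ^ m = 1 := by
      rw [← pow_mul]
      apply orderOf_dvd_iff_pow_eq_one.1
      rw [hkm]
      exact Nat.mul_dvd_mul_right ((Nat.modEq_zero_iff_dvd).1 hj1) _
    exact Nat.Coprime.coprime_dvd_left (orderOf_dvd_of_pow_eq_one h1)
      ((Nat.Prime.coprime_iff_not_dvd hp).2 hm).symm

variable {p : ℕ} [Fact p.Prime]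

/-- all `p`-subgroups are abelian when one Sylow `p`-subgroup is -/
theorem comm_of_pgroup (P : Sylow p G) (hab : IsMulCommutative ↥(P : Subgroup G)) {Q : Subgroup G}
    (hQ : IsPGroup p Q) {a b : G} (ha : a ∈ Q) (hb : b ∈ Q) : a * b = b * a := by
  obtain ⟨P', hP'⟩ := hQ.exists_le_sylow
  obtain ⟨g, rfl⟩ := MulAction.exists_smul_eq G P P'
  have ha' := hP' ha
  have hb' := hP' hb
  rw [Sylow.coe_subgroup_smul, Subgroup.mem_pointwise_smul_iff_inv_smul_mem] at ha' hb'
  have h1 := hab.is_comm.comm ⟨_, ha'⟩ ⟨_, hb'⟩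
  have h2 := congrArg Subtype.val h1
  simp only [Subgroup.coe_mul, MulAut.smul_def, MulAut.conj_apply, inv_inv] at h2
  have h3 : g⁻¹ * (a * b) * g = g⁻¹ * (b * a) * g := by
    calc g⁻¹ * (a * b) * g = g⁻¹ * a * g * (g⁻¹ * b * g) := by group
      _ = g⁻¹ * b * g * (g⁻¹ * a * g) := h2
      _ = _ := by group
  exact mul_left_cancel (mul_right_cancel h3)

theorem isPGroup_zpowers {H : Type*} [Group H] {u : H} (hu : ∃ k, orderOf u = p ^ k) :
    IsPGroup p (Subgroup.zpowers u) := by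
  obtain ⟨k, hk⟩ := hu
  exact IsPGroup.of_card (n := k) (by rw [Nat.card_zpowers]; exact hk)

/-- a `p`-element normalising a Sylow `p`-subgroup lies in it -/
theorem mem_of_mem_normalizer (P : Sylow p G) {u : G} (hu : ∃ k, orderOf u = p ^ k)
    (hN : u ∈ Subgroup.normalizer ((P : Subgroup G) : Set G)) : u ∈ (P : Subgroup G) := by
  have h1 : IsPGroup p ↥(Subgroup.zpowers u ⊔ (P : Subgroup G)) :=
    IsPGroup.to_sup_of_normal_right' (isPGroup_zpowers hu) P.isPGroup'
      (by rw [Subgroup.zpowers_le]; exact hN)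
  have h2 := P.is_maximal' h1 le_sup_right
  rw [← h2]
  exact (le_sup_left : Subgroup.zpowers u ≤ _) (Subgroup.mem_zpowers u)

theorem centralizer_le_normalizer' (H : Subgroup G) :
    Subgroup.centralizer (H : Set G) ≤ Subgroup.normalizer (H : Set G) := by
  intro c hc
  rw [Subgroup.mem_normalizer_iff]
  intro x
  constructor
  · intro hx
    have := hc x hx
    have e : c * x * c⁻¹ = x := by rw [← this]; group
    rw [e]; exact hx
  · intro hx
    have := hc _ hx
    have e : x = c * x * c⁻¹ := by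
      have h2 : c * x * c⁻¹ * c = c * (c * x * c⁻¹) := this
      have h3 : c * x = c * (c * x * c⁻¹) := by rw [← h2]; group
      exact mul_left_cancel h3
    rw [e]; exact hx

theorem eq_of_le_centralizer (P P' : Sylow p G)
    (h : (P' : Subgroup G) ≤ Subgroup.centralizer ((P : Subgroup G) : Set G)) : P' = P := by
  have h1 : IsPGroup p ↥((P' : Subgroup G) ⊔ (P : Subgroup G)) :=
    IsPGroup.to_sup_of_normal_right' P'.isPGroup' P.isPGroup'
      (h.trans (centralizer_le_normalizer' _))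
  have h2 := P.is_maximal' h1 le_sup_right
  have h3 : (P' : Subgroup G) ≤ P := by rw [← h2]; exact le_sup_left
  exact Sylow.ext (P'.is_maximal' P.isPGroup' h3).symm

/-- members centralise their `p`-elements -/
theorem comm_of_mem {𝓐 : Finset (Subgroup G)} (h : IsMNC 𝓐) (P : Sylow p G)
    (hab : IsMulCommutative ↥(P : Subgroup G)) {A : Subgroup G} (hA : A ∈ 𝓐) {x : G} (hx : x ∈ A)
    (hxp : ∃ k, orderOf x = p ^ k) {a : G} (ha : a ∈ A) : a * x = x * a := by
  have hp : p.Prime := Fact.out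
  haveI hnil : Group.IsNilpotent ↥A := h.2.2 A hA
  obtain ⟨i, j, hc, hi, hco⟩ := exists_decomp p a
  have h1 : a ^ j * x = x * a ^ j := by
    obtain ⟨k, hk⟩ := hxp
    have := Cfsg.Agent.Lib.Helper31.commute_of_coprime_orderOf ↥A ⟨a ^ j, A.pow_mem ha j⟩ ⟨x, hx⟩
      (by rw [Subgroup.orderOf_mk, Subgroup.orderOf_mk, hk]; exact Nat.Coprime.pow_right k hco)
    exact congrArg Subtype.val this.eq
  have h2 : a ^ i * x = x * a ^ i := by
    obtain ⟨S⟩ : Nonempty (Sylow p ↥A) := inferInstance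
    have hS : (S : Subgroup ↥A).Normal := inferInstance
    have key : ∀ u : ↥A, (∃ k, orderOf u = p ^ k) → u ∈ (S : Subgroup ↥A) := by
      intro u hu
      apply mem_of_mem_normalizer S hu
      rw [Subgroup.normalizer_eq_top_iff.2 hS]
      trivial
    have hQ : IsPGroup p ↥((S : Subgroup ↥A).map A.subtype) := S.isPGroup'.map A.subtype
    refine comm_of_pgroup P hab hQ ?_ ?_
    · exact ⟨⟨a ^ i, A.pow_mem ha i⟩, key _ (by rw [Subgroup.orderOf_mk]; exact hi), rfl⟩
    · exact ⟨⟨x, hx⟩, key _ (by rw [Subgroup.orderOf_mk]; exact hxp), rfl⟩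
  rw [hc]
  calc a ^ i * a ^ j * x = a ^ i * (a ^ j * x) := by group
    _ = a ^ i * x * a ^ j := by rw [h1]; group
    _ = x * (a ^ i * a ^ j) := by rw [h2]; group

/-- a nontrivial `p`-element lies in a unique member -/
theorem unique_member {𝓐 : Finset (Subgroup G)} (h : IsMNC 𝓐) (hZ : Subgroup.center G = ⊥)
    (P : Sylow p G) (hab : IsMulCommutative ↥(P : Subgroup G)) {A₁ A₂ : Subgroup G} (h1 : A₁ ∈ 𝓐)
    (h2 : A₂ ∈ 𝓐) {x : G} (hx1 : x ≠ 1) (hxp : ∃ k, orderOf x = p ^ k) (hxA₁ : x ∈ A₁)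
    (hxA₂ : x ∈ A₂) : A₁ = A₂ := by
  refine merge h h1 h2 (M := Subgroup.centralizer {x}) ?_ ?_ ?_
  · intro htop
    apply hx1
    have : x ∈ Subgroup.center G := by
      rw [Subgroup.mem_center_iff]
      intro g
      have hg : g ∈ Subgroup.centralizer ({x} : Set G) := by rw [htop]; trivial
      exact Subgroup.mem_centralizer_singleton_iff.1 hg
    rw [hZ] at this
    exact Subgroup.mem_bot.1 this
  · intro a ha
    exact Subgroup.mem_centralizer_singleton_iff.2 (comm_of_mem h P hab h1 hxA₁ hxp ha)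
  · intro a ha
    exact Subgroup.mem_centralizer_singleton_iff.2 (comm_of_mem h P hab h2 hxA₂ hxp ha)

theorem isPElt_of_mem (P : Sylow p G) {x : G} (hx : x ∈ (P : Subgroup G)) :
    ∃ k, orderOf x = p ^ k := by
  obtain ⟨k, hk⟩ := (IsPGroup.iff_orderOf.1 P.isPGroup') ⟨x, hx⟩
  exact ⟨k, by rw [← hk, Subgroup.orderOf_mk]⟩

/-- either `P` is elementary abelian of order `> p`, or it lies in a member -/
theorem dichotomy {𝓐 : Finset (Subgroup G)} (h : IsMNC 𝓐) (hZ : Subgroup.center G = ⊥)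
    (P : Sylow p G) (hab : IsMulCommutative ↥(P : Subgroup G)) :
    ((∀ a ∈ (P : Subgroup G), a ^ p = 1) ∧ p < Nat.card ↥(P : Subgroup G)) ∨
      ∃ A ∈ 𝓐, (P : Subgroup G) ≤ A := by
  have hp : p.Prime := Fact.out
  by_cases hex : ∃ A ∈ 𝓐, (P : Subgroup G) ≤ A
  · exact Or.inr hex
  left
  push Not at hex
  letI : CommGroup ↥(P : Subgroup G) :=
    { (inferInstance : Group ↥(P : Subgroup G)) with mul_comm := hab.is_comm.comm }
  have hexp := Cfsg.Agent.S3889.result (G := ↥(P : Subgroup G))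
    {B | ∃ A ∈ 𝓐, B = A.subgroupOf (P : Subgroup G)} ?_ ?_ ?_
  · obtain ⟨n, hn⟩ := IsPGroup.iff_card.1 P.isPGroup'
    have h1 : Monoid.exponent ↥(P : Subgroup G) ∣ p ^ n := hn ▸ Group.exponent_dvd_nat_card
    have h2 : Monoid.exponent ↥(P : Subgroup G) = p :=
      (Nat.prime_dvd_prime_iff_eq hexp hp).1 (hexp.dvd_of_dvd_pow h1)
    constructor
    · intro a ha
      have := Monoid.pow_exponent_eq_one (⟨a, ha⟩ : ↥(P : Subgroup G))
      rw [h2] at this
      exact congrArg Subtype.val this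
    · by_contra hle
      push Not at hle
      -- `P` is cyclic, hence inside a member
      by_cases hb : ∃ x ∈ (P : Subgroup G), x ≠ 1
      · obtain ⟨x, hx, hx1⟩ := hb
        obtain ⟨A, hA, hxA⟩ := h.1.2 x
        apply hex A hA
        have hz : Subgroup.zpowers x ≤ (P : Subgroup G) := by rw [Subgroup.zpowers_le]; exact hx
        have hcard : p ≤ Nat.card (Subgroup.zpowers x) := by
          rw [Nat.card_zpowers]
          obtain ⟨k, hk⟩ := isPElt_of_mem P hx
          rw [hk]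
          rcases Nat.eq_zero_or_pos k with h0 | h0
          · exfalso; apply hx1
            rw [h0, pow_zero, orderOf_eq_one_iff] at hk; exact hk
          · calc p = p ^ 1 := (pow_one p).symm
              _ ≤ p ^ k := Nat.pow_le_pow_right hp.pos h0
        have heq : Subgroup.zpowers x = (P : Subgroup G) :=
          Subgroup.eq_of_le_of_card_ge hz (hle.trans hcard)
        rw [← heq, Subgroup.zpowers_le]
        exact hxA
      · push Not at hb
        obtain ⟨A, hA, _⟩ := h.1.2 1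
        apply hex A hA
        intro x hx
        rw [hb x hx]; exact A.one_mem
  · rintro B ⟨A, hA, rfl⟩ htop
    exact hex A hA (Subgroup.subgroupOf_eq_top.1 htop)
  · intro g
    obtain ⟨A, hA, hg⟩ := h.1.2 (g : G)
    exact ⟨_, ⟨A, hA, rfl⟩, Subgroup.mem_subgroupOf.2 hg⟩
  · rintro B ⟨A₁, hA₁, rfl⟩ C ⟨A₂, hA₂, rfl⟩ hne
    rw [eq_bot_iff]
    intro x hx
    rw [Subgroup.mem_bot]
    by_contra hx1
    apply hne
    have h1 : (x : G) ∈ A₁ := Subgroup.mem_subgroupOf.1 hx.1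
    have h2 : (x : G) ∈ A₂ := Subgroup.mem_subgroupOf.1 hx.2
    rw [unique_member h hZ P hab hA₁ hA₂ (fun e => hx1 (Subtype.ext e)) (isPElt_of_mem P x.2) h1 h2]

/-- a member containing `P` is the centraliser of `P` -/
theorem centralizer_eq {𝓐 : Finset (Subgroup G)} (h : IsMNC 𝓐) (hZ : Subgroup.center G = ⊥)
    (P : Sylow p G) (hab : IsMulCommutative ↥(P : Subgroup G)) (hnb : (P : Subgroup G) ≠ ⊥)
    {A : Subgroup G} (hA : A ∈ 𝓐) (hPA : (P : Subgroup G) ≤ A) :
    Subgroup.centralizer ((P : Subgroup G) : Set G) = A := by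
  have hp : p.Prime := Fact.out
  apply le_antisymm
  · intro c hc
    obtain ⟨⟨x, hx⟩, hx1'⟩ := (Subgroup.ne_bot_iff_exists_ne_one).1 hnb
    have hx1 : x ≠ 1 := fun e => hx1' (Subtype.ext e)
    obtain ⟨i, j, hcd, hi, hco⟩ := exists_decomp p c
    have hu : c ^ i ∈ A := by
      apply hPA
      apply mem_of_mem_normalizer P hi
      exact centralizer_le_normalizer' _ (Subgroup.pow_mem _ hc i)
    have hy : c ^ j ∈ A := by
      have hcomm : Commute x (c ^ j) := (Subgroup.pow_mem _ hc j) x hx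
      obtain ⟨A'', hA'', hxy⟩ := h.1.2 (x * c ^ j)
      have h1 : x ^ orderOf (c ^ j) ∈ A'' := by
        have := A''.pow_mem hxy (orderOf (c ^ j))
        rwa [hcomm.mul_pow, pow_orderOf_eq_one, mul_one] at this
      have h2 : x ^ orderOf (c ^ j) ≠ 1 := by
        intro e
        have h3 := orderOf_dvd_of_pow_eq_one e
        obtain ⟨k, hk⟩ := isPElt_of_mem P hx
        rcases Nat.eq_zero_or_pos k with h0 | h0
        · apply hx1
          rw [h0, pow_zero, orderOf_eq_one_iff] at hk; exact hk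
        · have h4 : p ∣ orderOf (c ^ j) := (hk ▸ dvd_pow_self p (by omega) : p ∣ orderOf x).trans h3
          exact hp.one_lt.ne' (Nat.eq_one_of_dvd_coprimes hco h4 dvd_rfl)
      have h5 : x ^ orderOf (c ^ j) ∈ (P : Subgroup G) := Subgroup.pow_mem _ hx _
      have h6 : A'' = A := unique_member h hZ P hab hA'' hA h2 (isPElt_of_mem P h5) h1 (hPA h5)
      rw [h6] at hxy
      have := A.mul_mem (A.inv_mem (hPA hx)) hxy
      simpa using this
    rw [hcd]
    exact A.mul_mem hu hy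
  · intro a ha x hx
    exact (comm_of_mem h P hab hA (hPA hx) (isPElt_of_mem P hx) ha).symm

theorem conj_mem_smul (P : Sylow p G) (g : G) {x : G} (hx : x ∈ (P : Subgroup G)) :
    g * x * g⁻¹ ∈ ((g • P : Sylow p G) : Subgroup G) := by
  rw [Sylow.coe_subgroup_smul]
  exact Subgroup.smul_mem_pointwise_smul x (MulAut.conj g) _ hx

theorem exists_of_mem_smul (P : Sylow p G) (g : G) {y : G}
    (hy : y ∈ ((g • P : Sylow p G) : Subgroup G)) : ∃ x ∈ (P : Subgroup G), y = g * x * g⁻¹ := by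
  rw [Sylow.coe_subgroup_smul, Subgroup.mem_pointwise_smul_iff_inv_smul_mem] at hy
  refine ⟨_, hy, ?_⟩
  simp only [MulAut.smul_def, map_inv, MulAut.inv_apply, MulAut.conj_symm_apply]
  group

/-- the standing assumptions under which every Sylow `p`-subgroup lies in a member -/
structure Hyp (𝓐 : Finset (Subgroup G)) (P : Sylow p G) : Prop where
  mnc : IsMNC 𝓐
  center : Subgroup.center G = ⊥
  ab : IsMulCommutative ↥(P : Subgroup G)
  ne_bot : (P : Subgroup G) ≠ ⊥
  not_el : ¬ ((∀ a ∈ (P : Subgroup G), a ^ p = 1) ∧ p < Nat.card ↥(P : Subgroup G))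

theorem Hyp.le {𝓐 : Finset (Subgroup G)} {P : Sylow p G} (H : Hyp 𝓐 P) (P' : Sylow p G) :
    (P' : Subgroup G) ≤ Subgroup.centralizer ((P' : Subgroup G) : Set G) := by
  intro x hx y hy
  exact comm_of_pgroup P H.ab P'.isPGroup' hy hx

theorem Hyp.mem {𝓐 : Finset (Subgroup G)} {P : Sylow p G} (H : Hyp 𝓐 P) (P' : Sylow p G) :
    Subgroup.centralizer ((P' : Subgroup G) : Set G) ∈ 𝓐 := by
  have hab' : IsMulCommutative ↥(P' : Subgroup G) :=
    ⟨⟨fun a b => Subtype.ext (comm_of_pgroup P H.ab P'.isPGroup' a.2 b.2)⟩⟩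
  obtain ⟨g, hg⟩ := MulAction.exists_smul_eq G P' P
  have hcard : Nat.card ↥(P' : Subgroup G) = Nat.card ↥(P : Subgroup G) := by
    rw [← hg]
    exact Nat.card_congr (Sylow.equivSMul P' g).toEquiv
  rcases dichotomy H.mnc H.center P' hab' with ⟨h1, h2⟩ | ⟨A, hA, hPA⟩
  · exfalso
    apply H.not_el
    refine ⟨fun a ha => ?_, hcard ▸ h2⟩
    rw [← hg] at ha
    obtain ⟨x, hx, rfl⟩ := exists_of_mem_smul P' g ha
    rw [conj_pow, h1 x hx]
    group
  · have hnb : (P' : Subgroup G) ≠ ⊥ := by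
      intro e
      apply H.ne_bot
      have h1 : Nat.card ↥(P' : Subgroup G) = 1 := by rw [e]; exact Subgroup.card_bot
      rw [hcard] at h1
      exact Subgroup.card_eq_one.1 h1
    rw [centralizer_eq H.mnc H.center P' hab' hnb hA hPA]
    exact hA

theorem Hyp.ti {𝓐 : Finset (Subgroup G)} {P : Sylow p G} (H : Hyp 𝓐 P) (P' P'' : Sylow p G) {x : G}
    (hx1 : x ≠ 1) (h' : x ∈ (P' : Subgroup G)) (h'' : x ∈ (P'' : Subgroup G)) : P'' = P' := by
  have h1 := unique_member H.mnc H.center P H.ab (H.mem P') (H.mem P'') hx1 (isPElt_of_mem P' h')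
    (H.le P' h') (H.le P'' h'')
  apply eq_of_le_centralizer
  rw [h1]
  exact H.le P''

theorem Hyp.le_normalizer {𝓐 : Finset (Subgroup G)} {P : Sylow p G} (H : Hyp 𝓐 P) {M : Subgroup G}
    (hM : M ≠ ⊤) (hC : Subgroup.centralizer ((P : Subgroup G) : Set G) ≤ M) :
    M ≤ Subgroup.normalizer ((P : Subgroup G) : Set G) := by
  intro m hm
  have h1 : Subgroup.centralizer (((m • P : Sylow p G) : Subgroup G) : Set G) ≤ M := by
    intro c hc
    have h2 : m⁻¹ * c * m ∈ Subgroup.centralizer ((P : Subgroup G) : Set G) := by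
      intro x hx
      have h3 : m * x * m⁻¹ * c = c * (m * x * m⁻¹) := hc _ (conj_mem_smul P m hx)
      calc x * (m⁻¹ * c * m) = m⁻¹ * (m * x * m⁻¹ * c) * m := by group
        _ = m⁻¹ * (c * (m * x * m⁻¹)) * m := by rw [h3]
        _ = m⁻¹ * c * m * x := by group
    have h4 := M.mul_mem (M.mul_mem hm (hC h2)) (M.inv_mem hm)
    have e : m * (m⁻¹ * c * m) * m⁻¹ = c := by group
    rwa [e] at h4
  have h5 := merge H.mnc (H.mem P) (H.mem (m • P)) hM hC h1
  have h6 : m • P = P := by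
    apply eq_of_le_centralizer
    rw [h5]
    exact H.le _
  exact Sylow.smul_eq_iff_mem_normalizer.1 h6

theorem Hyp.isCoatom {𝓐 : Finset (Subgroup G)} {P : Sylow p G} (H : Hyp 𝓐 P)
    (hnn : ¬ (P : Subgroup G).Normal) :
    IsCoatom (Subgroup.normalizer ((P : Subgroup G) : Set G)) := by
  refine ⟨fun e => hnn (Subgroup.normalizer_eq_top_iff.1 e), fun M hM => ?_⟩
  by_contra hne
  exact absurd (H.le_normalizer hne ((centralizer_le_normalizer' _).trans hM.le)) (not_le_of_gt hM)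

theorem Hyp.not_dvd {𝓐 : Finset (Subgroup G)} {P : Sylow p G} (H : Hyp 𝓐 P) {g : G}
    (hg : g ∉ Subgroup.normalizer ((P : Subgroup G) : Set G)) :
    ¬ p ∣ Nat.card ↥(Subgroup.normalizer ((P : Subgroup G) : Set G) ⊓
          (Subgroup.normalizer ((P : Subgroup G) : Set G)).map (MulAut.conj g).toMonoidHom) := by
  intro hdvd
  obtain ⟨⟨u, hu12⟩, hu⟩ := exists_prime_orderOf_dvd_card' p hdvd
  rw [Subgroup.orderOf_mk] at hu
  obtain ⟨hu1, hu2⟩ := Subgroup.mem_inf.1 hu12
  have hup : ∃ k, orderOf u = p ^ k := ⟨1, by rw [hu, pow_one]⟩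
  have hu0 : u ≠ 1 := by
    intro e
    rw [e, orderOf_one] at hu
    exact (Fact.out : p.Prime).one_lt.ne hu
  have h1 : u ∈ (P : Subgroup G) := mem_of_mem_normalizer P hup hu1
  obtain ⟨n, hn, hnu⟩ := hu2
  have hnu' : g * n * g⁻¹ = u := hnu
  have hnp : ∃ k, orderOf n = p ^ k := by
    have : orderOf (g * n * g⁻¹) = orderOf n := by
      have := orderOf_injective (MulAut.conj g).toMonoidHom (MulAut.conj g).injective n
      exact this
    rw [← this, hnu']; exact hup
  have h2 : u ∈ ((g • P : Sylow p G) : Subgroup G) := by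
    rw [← hnu']
    exact conj_mem_smul P g (mem_of_mem_normalizer P hnp hn)
  have h3 : g • P = P := H.ti P (g • P) hu0 h1 h2
  exact hg (Sylow.smul_eq_iff_mem_normalizer.1 h3)

end Cfsg.Agent.Lib.Helper4.NilCover
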