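import Mathlib
import Cfsg.Agent.Lib.Helper4.PiPart

set_option autoImplicit false

namespace Cfsg.Agent.Lib.Helper4

variable {G : Type*} [Group G] [Finite G] {m n k : ℕ}

theorem orderOf_dvd_left_of_coprime (hmn : Nat.card G = m * n) {u : G}
    (hu : Nat.Coprime (orderOf u) n) : orderOf u ∣ m := by
  apply hu.dvd_of_dvd_mul_right
  rw [← hmn]
  exact orderOf_dvd_natCard u

theorem orderOf_dvd_right_of_coprime (hmn : Nat.card G = m * n) {v : G}
    (hv : Nat.Coprime (orderOf v) m) : orderOf v ∣ n := by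
  apply hv.dvd_of_dvd_mul_left
  rw [← hmn]
  exact orderOf_dvd_natCard v

theorem pow_part_of_decomp (hmn : Nat.card G = m * n) (hk0 : m ∣ k) (hk1 : k ≡ 1 [MOD n])
    {u v : G} (huv : Commute u v) (hu : Nat.Coprime (orderOf u) n)
    (hv : Nat.Coprime (orderOf v) m) : (u * v) ^ k = v := by
  rw [huv.mul_pow, pow_eq_one_of_orderOf_dvd (orderOf_dvd_left_of_coprime hmn hu) hk0, one_mul,
    pow_eq_self_of_orderOf_dvd (orderOf_dvd_right_of_coprime hmn hv) hk1]

theorem orderOf_pow_part_dvd (hmn : Nat.card G = m * n) (hk0 : m ∣ k) (x : G) :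
    orderOf (x ^ k) ∣ n := by
  apply orderOf_dvd_of_pow_eq_one
  rw [← pow_mul]
  apply pow_eq_one_of_orderOf_dvd (orderOf_dvd_natCard x)
  rw [hmn]
  exact Nat.mul_dvd_mul_right hk0 n

theorem pow_part_pow_part (hmn : Nat.card G = m * n) (hk0 : m ∣ k) (hk1 : k ≡ 1 [MOD n])
    (x : G) : (x ^ k) ^ k = x ^ k :=
  pow_eq_self_of_orderOf_dvd (orderOf_pow_part_dvd hmn hk0 x) hk1

theorem orderOf_mul_inv_pow_part_dvd (hmn : Nat.card G = m * n) (hk1 : k ≡ 1 [MOD n]) (x : G) :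
    orderOf (x * (x ^ k)⁻¹) ∣ m := by
  apply orderOf_dvd_of_pow_eq_one
  have hc : Commute x (x ^ k)⁻¹ := (Commute.pow_right (Commute.refl x) k).inv_right
  rw [hc.mul_pow, inv_pow, mul_inv_eq_one, ← pow_mul, pow_eq_pow_iff_modEq]
  have h1 : m * 1 ≡ m * k [MOD m * n] := (Nat.ModEq.mul_left' m hk1).symm
  rw [mul_one, mul_comm m k] at h1
  apply h1.of_dvd
  rw [← hmn]
  exact orderOf_dvd_natCard x

/-- characterization of the `n`-part -/
theorem exists_decomp_iff (hmn : Nat.card G = m * n) (hcop : m.Coprime n) (hk0 : m ∣ k)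
    (hk1 : k ≡ 1 [MOD n]) (x v : G) :
    (∃ u : G, x = u * v ∧ Commute u v ∧ Nat.Coprime (orderOf u) n ∧ Nat.Coprime (orderOf v) m) ↔
      v = x ^ k := by
  constructor
  · rintro ⟨u, rfl, huv, hu, hv⟩
    exact (pow_part_of_decomp hmn hk0 hk1 huv hu hv).symm
  · rintro rfl
    refine ⟨x * (x ^ k)⁻¹, by group, ?_, ?_, ?_⟩
    · have h1 : Commute x (x ^ k) := Commute.pow_right (Commute.refl x) k
      exact Commute.mul_left h1 (Commute.inv_left (Commute.refl _))
    · exact Nat.Coprime.coprime_dvd_left (orderOf_mul_inv_pow_part_dvd hmn hk1 x) hcop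
    · exact Nat.Coprime.coprime_dvd_left (orderOf_pow_part_dvd hmn hk0 x) hcop.symm

end Cfsg.Agent.Lib.Helper4
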